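import Cfsg.Agent.Lib.Fusion.AbelianChain
import Cfsg.Agent.Lib.UniqueOrderP
import Cfsg.Agent.Lib.MaximalClassTwo
import Cfsg.Agent.Lib.Fusion.MaxClassSeries
import Cfsg.Agent.Lib.Fusion.SmallEssentialFour
import Cfsg.Prelude.Def_OddOrderLocal

/-! Metacyclic `2`-groups with an automorphism of odd order. (helper6) -/

set_option autoImplicit false
set_option linter.unusedSectionVars false
set_option linter.style.haveILetI false

universe u

namespace CfsgLib.Metacyclic.TwoAut

open scoped commutatorElement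
open CfsgLib.Fusion.CyclicChain

variable {X : Type u} [Group X] [Finite X]

theorem eq_one_of_pow_two {G : Type*} [Group G] {α : G} (hα : Odd (orderOf α)) {k : ℕ} (h : α ^ 2 ^ k = 1) : α = 1 :=
  orderOf_eq_one_iff.mp
    (Nat.eq_one_of_dvd_coprimes (Nat.Coprime.pow_right k (Nat.coprime_two_right.mpr hα)) dvd_rfl
      (orderOf_dvd_of_pow_eq_one h))

theorem odd_zpowers {G : Type*} [Group G] {α : G} (hα : Odd (orderOf α)) :
    (Nat.card ↥(Subgroup.zpowers α)).Coprime 2 := by
  rw [Nat.card_zpowers]; exact Nat.coprime_two_right.mpr hα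

theorem zpowers_inv (α : MulAut X) {K : Subgroup X} (h : ∀ y ∈ K, α y ∈ K) :
    ∀ a ∈ Subgroup.zpowers α, ∀ y ∈ K, a y ∈ K := by
  intro a ha
  haveI : Finite (MulAut X) := Finite.of_injective (fun e : MulAut X => (e : X → X)) DFunLike.coe_injective
  obtain ⟨k, rfl⟩ := (Submonoid.mem_powers_iff _ _).mp ((mem_powers_iff_mem_zpowers).mpr ha)
  intro y hy
  clear ha
  induction k with
  | zero => simpa using hy
  | succ k ih => rw [pow_succ', MulAut.mul_apply]; exact h _ ih

/-- An odd-order automorphism fixing a cyclic normal subgroup with cyclic quotient is trivial. -/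
theorem eq_one_of_fixed (hX : IsPGroup 2 X) {α : MulAut X} (hα : Odd (orderOf α)) (N : Subgroup X) [hN : N.Normal]
    (hc : IsCyclic ↥N) (hq : IsCyclic (X ⧸ N)) (hinv : ∀ y ∈ N, α y ∈ N) : α = 1 := by
  obtain ⟨g, hg⟩ := hc.exists_generator
  obtain ⟨h, hh⟩ := hq.exists_generator
  obtain ⟨x, rfl⟩ := QuotientGroup.mk'_surjective N h
  let c : ℕ → Subgroup X := fun i => match i with
    | 0 => ⊥
    | 1 => N
    | _ => ⊤
  have hI : Inv (Subgroup.zpowers α) 2 c := by
    refine ⟨rfl, rfl, fun i => ?_, fun i hi => ?_, fun i hi => ?_, fun a ha i y hy => ?_⟩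
    · match i with
      | 0 => exact (inferInstance : (⊥ : Subgroup X).Normal)
      | 1 => exact hN
      | _ + 2 => exact (inferInstance : (⊤ : Subgroup X).Normal)
    · match i with
      | 0 => exact bot_le
      | 1 => exact le_top
    · match i with
      | 0 =>
        refine ⟨g, g.2, fun y hy => Subgroup.mem_sup_right ?_⟩
        obtain ⟨k, hk⟩ := hg ⟨y, hy⟩
        exact ⟨k, congrArg Subtype.val hk⟩
      | 1 =>
        refine ⟨x, Subgroup.mem_top x, fun y _ => ?_⟩
        obtain ⟨k, hk⟩ := hh (QuotientGroup.mk' N y)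
        have h1 : (x ^ k)⁻¹ * y ∈ N := QuotientGroup.eq.mp ((map_zpow (QuotientGroup.mk' N) x k).trans hk)
        have h2 := (N ⊔ Subgroup.zpowers x).mul_mem
          (Subgroup.mem_sup_right (Subgroup.zpow_mem _ (Subgroup.mem_zpowers x) k)) (Subgroup.mem_sup_left h1)
        rwa [mul_inv_cancel_left] at h2
    · match i with
      | 0 =>
        change y ∈ (⊥ : Subgroup X) at hy
        show a y ∈ (⊥ : Subgroup X)
        rw [Subgroup.mem_bot] at hy ⊢
        rw [hy, map_one]
      | 1 => exact zpowers_inv α hinv a ha y hy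
      | _ + 2 => exact Subgroup.mem_top _
  simpa using (abelian_exponent hX hI le_rfl (odd_zpowers hα)).2 α (Subgroup.mem_zpowers α)

/-- An odd-order automorphism trivial on a central subgroup of exponent two and modulo it is trivial. -/
theorem eq_one_of_stable {α : MulAut X} (hα : Odd (orderOf α)) (Z : Subgroup X) (hfix : ∀ z ∈ Z, α z = z)
    (h2 : ∀ z ∈ Z, z ^ 2 = 1) (hmod : ∀ y, y⁻¹ * α y ∈ Z) : α = 1 := by
  refine eq_one_of_pow_two hα (k := 1) (MulEquiv.ext fun y => ?_)
  rw [pow_one, CfsgLib.Fusion.iter_fix α (mul_inv_cancel_left y (α y)).symm (hfix _ (hmod y)), h2 _ (hmod y), mul_one]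
  rfl

theorem card_sq_eq_one_le (hm : Cfsg.IsMetacyclic X) (hab : ∀ a b : X, a * b = b * a) : Nat.card {x : X // x ^ 2 = 1} ≤ 4 := by
  classical
  obtain ⟨N, hN, hc, hq⟩ := hm
  have two : ∀ (H : Type u) [Group H] [Finite H] [IsCyclic H], Nat.card {x : H // x ^ 2 = 1} ≤ 2 := by
    intro H _ _ _
    haveI := Fintype.ofFinite H
    rw [Nat.card_eq_fintype_card, Fintype.card_subtype]
    exact IsCyclic.card_pow_eq_one_le (by norm_num)
  let f : {x : X // x ^ 2 = 1} → {q : X ⧸ N // q ^ 2 = 1} := fun x =>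
    ⟨QuotientGroup.mk' N x, by rw [← map_pow, x.2, map_one]⟩
  haveI := Fintype.ofFinite {q : X ⧸ N // q ^ 2 = 1}
  have hfib : ∀ q, Nat.card {x // f x = q} ≤ 2 := by
    intro q
    rcases isEmpty_or_nonempty {x // f x = q} with he | ⟨⟨x₀, hx₀⟩⟩
    · simp
    have hmem : ∀ x : {x // f x = q}, (x.1 : X) * (x₀ : X)⁻¹ ∈ N := fun x => by
      rw [← QuotientGroup.eq_one_iff, QuotientGroup.mk_mul, QuotientGroup.mk_inv, mul_inv_eq_one]
      exact congrArg Subtype.val (x.2.trans hx₀.symm)
    let g : {x // f x = q} → {n : ↥N // n ^ 2 = 1} := fun x => ⟨⟨_, hmem x⟩, Subtype.ext (by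
      show ((x.1 : X) * (x₀ : X)⁻¹) ^ 2 = 1
      rw [(show Commute (x.1 : X) (x₀ : X)⁻¹ from hab _ _).mul_pow, x.1.2, inv_pow, x₀.2, inv_one, mul_one])⟩
    refine (Nat.card_le_card_of_injective g fun x y h => Subtype.ext (Subtype.ext ?_)).trans (two ↥N)
    exact mul_right_cancel (congrArg Subtype.val (congrArg Subtype.val h))
  calc Nat.card {x : X // x ^ 2 = 1} = Nat.card (Σ q, {x // f x = q}) := (Nat.card_congr (Equiv.sigmaFiberEquiv f)).symm
    _ = ∑ q, Nat.card {x // f x = q} := Nat.card_sigma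
    _ ≤ ∑ _q : {q : X ⧸ N // q ^ 2 = 1}, 2 := Finset.sum_le_sum fun q _ => hfib q
    _ ≤ 4 := by
      rw [Finset.sum_const, Finset.card_univ, ← Nat.card_eq_fintype_card, smul_eq_mul]
      exact Nat.mul_le_mul_right 2 (two (X ⧸ N))

theorem comm_of_cyclic (hX : IsPGroup 2 X) (hc : IsCyclic (X ⧸ commutator X)) : ∀ a b : X, a * b = b * a := by
  haveI : Fact (Nat.Prime 2) := ⟨Nat.prime_two⟩
  obtain ⟨g, hg⟩ := hc.exists_generator
  obtain ⟨x, rfl⟩ := QuotientGroup.mk'_surjective _ g
  have hsup : Subgroup.zpowers x ⊔ commutator X = ⊤ := by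
    rw [eq_top_iff]
    intro y _
    obtain ⟨i, hi⟩ := Subgroup.mem_zpowers_iff.mp (hg (QuotientGroup.mk' _ y))
    rw [← map_zpow] at hi
    have : (x ^ i)⁻¹ * y ∈ commutator X := QuotientGroup.eq.mp hi
    rw [← mul_inv_cancel_left (x ^ i) y]
    exact Subgroup.mul_mem_sup (Subgroup.zpow_mem _ (Subgroup.mem_zpowers x) i) this
  have htop : Subgroup.zpowers x = ⊤ := by
    by_contra hne
    obtain ⟨M, hM, hle⟩ := (eq_top_or_exists_le_coatom (Subgroup.zpowers x)).resolve_left hne
    exact hM.1 (eq_top_iff.mpr (hsup ▸ sup_le hle (CfsgLib.MaximalClassTwo.commutator_le_coatom hX hM)))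
  intro a b
  obtain ⟨i, rfl⟩ := Subgroup.mem_zpowers_iff.mp (htop.ge (Subgroup.mem_top a))
  obtain ⟨j, rfl⟩ := Subgroup.mem_zpowers_iff.mp (htop.ge (Subgroup.mem_top b))
  exact ((Commute.refl x).zpow_zpow i j).eq

/-- In a homocyclic group of rank two no nontrivial odd automorphism fixes a subgroup of index two. -/
theorem eq_one_of_index_two {W : Type u} [CommGroup W] [Finite W] {n : ℕ} (hn : 0 < n)
    (e : W ≃* Multiplicative (ZMod (2 ^ n)) × Multiplicative (ZMod (2 ^ n)))
    {α : MulAut W} (hα : Odd (orderOf α)) (K : Subgroup W) (hK : K.index = 2) (hinv : ∀ y ∈ K, α y ∈ K) : α = 1 := by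
  classical
  haveI : NeZero (2 ^ n) := ⟨pow_ne_zero _ (by norm_num)⟩
  have hcard : Nat.card W = 2 ^ (2 * n) := by
    rw [Nat.card_congr e.toEquiv, Nat.card_prod, Nat.card_congr Multiplicative.toAdd, Nat.card_zmod, ← pow_add, two_mul]
  have hW : IsPGroup 2 W := IsPGroup.of_card hcard
  have hexp : ∀ w : W, w ^ 2 ^ n = 1 := fun w => e.injective (by
    rw [map_pow, map_one]
    refine Prod.ext ?_ ?_ <;> exact Multiplicative.toAdd.injective (by simp))
  -- squares have index four
  set Q := (powMonoidHom 2 : W →* W).range with hQ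
  have hQK : Q ≤ K := by rintro _ ⟨w, rfl⟩; exact Subgroup.sq_mem_of_index_two hK w
  have hker : Nat.card ↥(powMonoidHom 2 : W →* W).ker ≤ 4 := by
    let i : ↥(powMonoidHom 2 : W →* W).ker →
        {x : Multiplicative (ZMod (2 ^ n)) // x ^ 2 = 1} × {x : Multiplicative (ZMod (2 ^ n)) // x ^ 2 = 1} :=
      fun x => (⟨(e x).1, by rw [← Prod.pow_fst, ← map_pow, show (x : W) ^ 2 = 1 from x.2, map_one]; rfl⟩,
        ⟨(e x).2, by rw [← Prod.pow_snd, ← map_pow, show (x : W) ^ 2 = 1 from x.2, map_one]; rfl⟩)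
    have h2 : Nat.card {x : Multiplicative (ZMod (2 ^ n)) // x ^ 2 = 1} ≤ 2 := by
      rw [Nat.card_eq_fintype_card, Fintype.card_subtype]
      exact IsCyclic.card_pow_eq_one_le (by norm_num)
    refine (Nat.card_le_card_of_injective i fun x y h => ?_).trans (by rw [Nat.card_prod]; exact Nat.mul_le_mul h2 h2)
    simp only [i, Prod.mk.injEq, Subtype.mk.injEq] at h
    exact Subtype.ext (e.injective (Prod.ext h.1 h.2))
  have hQi : Q.index ≤ 4 := by
    have h1 := (powMonoidHom 2 : W →* W).ker.card_mul_index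
    rw [Subgroup.index_ker, ← Q.card_mul_index, mul_comm (Nat.card ↥(powMonoidHom 2 : W →* W).ker)] at h1
    rw [← Nat.eq_of_mul_eq_mul_left Nat.card_pos h1]
    exact hker
  -- one generator over the squares and one over `K`
  have hrel : Q.relIndex K ≤ 2 := by
    have h1 := Subgroup.relIndex_mul_index hQK
    rw [hK] at h1; omega
  have hgenK : ∃ k ∈ K, K ≤ Q ⊔ Subgroup.zpowers k := by
    by_cases hle : K ≤ Q
    · exact ⟨1, K.one_mem, hle.trans le_sup_left⟩
    obtain ⟨k, hk, hkQ⟩ := SetLike.not_le_iff_exists.mp hle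
    refine ⟨k, hk, (Subgroup.eq_of_le_of_card_ge (sup_le hQK (Subgroup.zpowers_le.mpr hk)) ?_).ge⟩
    have h1 := CfsgLib.Fusion.MaxClassSeries.card_mul_le hW (lt_of_le_of_ne (le_sup_left : Q ≤ Q ⊔ Subgroup.zpowers k)
      fun e' => hkQ (e'.ge (Subgroup.mem_sup_right (Subgroup.mem_zpowers k))))
    refine le_trans ?_ h1
    rw [← (Q.subgroupOf K).card_mul_index, Nat.card_congr (Subgroup.subgroupOfEquivOfLe hQK).toEquiv, mul_comm]
    exact Nat.mul_le_mul_right _ hrel
  obtain ⟨k, hkK, hKgen⟩ := hgenK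
  obtain ⟨y, hy⟩ : ∃ y, y ∉ K := by
    by_contra hall
    push Not at hall
    rw [show K = ⊤ from eq_top_iff.mpr fun w _ => hall w, Subgroup.index_top] at hK
    omega
  have htop : K ⊔ Subgroup.zpowers y = ⊤ := by
    refine Subgroup.eq_top_of_le_card _ ?_
    have h1 := CfsgLib.Fusion.MaxClassSeries.card_mul_le hW (lt_of_le_of_ne (le_sup_left : K ≤ K ⊔ Subgroup.zpowers y)
      fun e' => hy (e'.ge (Subgroup.mem_sup_right (Subgroup.mem_zpowers y))))
    rw [← K.card_mul_index, hK, mul_comm]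
    exact h1
  let pw : ℕ → W →* W := fun j => powMonoidHom (2 ^ j)
  have hQmap : ∀ j, Q.map (pw j) = (pw (j + 1)).range := fun j => by
    rw [hQ, MonoidHom.range_eq_map, Subgroup.map_map, MonoidHom.range_eq_map]
    congr 1
    ext w
    show (w ^ 2) ^ 2 ^ j = w ^ 2 ^ (j + 1)
    rw [← pow_mul, ← pow_succ']
  let c : ℕ → Subgroup W := fun i => if Even i then (pw (n - i / 2)).range else K.map (pw (n - 1 - i / 2))
  have hI : Inv (Subgroup.zpowers α) (2 * n) c := by
    refine ⟨?_, ?_, fun i => inferInstance, fun i hi => ?_, fun i hi => ?_, fun a ha i z hz => ?_⟩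
    · show (if Even 0 then _ else _) = ⊥
      rw [if_pos Even.zero]
      exact eq_bot_iff.mpr (by rintro _ ⟨w, rfl⟩; exact Subgroup.mem_bot.mpr (hexp w))
    · show (if Even (2 * n) then _ else _) = ⊤
      rw [if_pos (even_two_mul n), show n - 2 * n / 2 = 0 by omega]
      exact eq_top_iff.mpr fun w _ => ⟨w, by show w ^ 2 ^ 0 = w; rw [pow_zero, pow_one]⟩
    · obtain ⟨t, rfl | rfl⟩ := Nat.even_or_odd' i
      · simp only [c, if_pos (even_two_mul t), if_neg (Nat.not_even_two_mul_add_one t)]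
        rw [show n - 2 * t / 2 = (n - 1 - t) + 1 by omega, show (2 * t + 1) / 2 = t by omega, ← hQmap]
        exact Subgroup.map_mono hQK
      · simp only [c, if_neg (Nat.not_even_two_mul_add_one t), show 2 * t + 1 + 1 = 2 * (t + 1) by ring,
          if_pos (even_two_mul (t + 1))]
        rw [show n - 2 * (t + 1) / 2 = n - 1 - t by omega, show (2 * t + 1) / 2 = t by omega]
        exact Subgroup.map_le_range _ _
    · obtain ⟨t, rfl | rfl⟩ := Nat.even_or_odd' i
      · simp only [c, if_pos (even_two_mul t), if_neg (Nat.not_even_two_mul_add_one t)]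
        rw [show n - 2 * t / 2 = (n - 1 - t) + 1 by omega, show (2 * t + 1) / 2 = t by omega, ← hQmap]
        refine ⟨pw (n - 1 - t) k, Subgroup.mem_map_of_mem _ hkK, (Subgroup.map_mono hKgen).trans ?_⟩
        rw [Subgroup.map_sup, MonoidHom.map_zpowers]
      · simp only [c, if_neg (Nat.not_even_two_mul_add_one t), show 2 * t + 1 + 1 = 2 * (t + 1) by ring,
          if_pos (even_two_mul (t + 1))]
        rw [show n - 2 * (t + 1) / 2 = n - 1 - t by omega, show (2 * t + 1) / 2 = t by omega]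
        refine ⟨pw (n - 1 - t) y, ⟨y, rfl⟩, ?_⟩
        rw [MonoidHom.range_eq_map, ← htop, Subgroup.map_sup, MonoidHom.map_zpowers]
    · simp only [c] at hz ⊢
      split_ifs at hz ⊢
      · obtain ⟨w, rfl⟩ := hz
        exact ⟨a w, (map_pow a w _).symm⟩
      · obtain ⟨w, hw, rfl⟩ := hz
        exact ⟨a w, zpowers_inv α hinv a ha w hw, (map_pow a w _).symm⟩
  simpa using (abelian_exponent hW hI le_rfl (odd_zpowers hα)).2 α (Subgroup.mem_zpowers α)

/-- The abelian case. -/
theorem homocyclic (hX : IsPGroup 2 X) (hm : Cfsg.IsMetacyclic X) (hab : ∀ a b : X, a * b = b * a) {α : MulAut X}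
    (hα : Odd (orderOf α)) (hα1 : α ≠ 1) :
    ∃ n : ℕ, 0 < n ∧ Nonempty (X ≃* Multiplicative (ZMod (2 ^ n)) × Multiplicative (ZMod (2 ^ n))) := by
  classical
  letI : CommGroup X := { ‹Group X› with mul_comm := hab }
  obtain ⟨ι, _, d, hd1, ⟨φ⟩⟩ := CommGroup.equiv_prod_multiplicative_zmod_of_finite X
  obtain ⟨m, hcardX⟩ := IsPGroup.iff_card.mp hX
  have hdp : ∀ i, ∃ e, d i = 2 ^ e := fun i => by
    have h1 : Nat.card (Multiplicative (ZMod (d i))) ∣ 2 ^ m := by
      rw [← hcardX, Nat.card_congr φ.toEquiv, Nat.card_pi]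
      exact Finset.dvd_prod_of_mem _ (Finset.mem_univ i)
    rw [Nat.card_congr Multiplicative.toAdd, Nat.card_zmod] at h1
    obtain ⟨e, -, he⟩ := (Nat.dvd_prime_pow Nat.prime_two).mp h1
    exact ⟨e, he⟩
  choose e he using hdp
  obtain rfl : d = fun i => 2 ^ e i := funext he
  haveI : Fact (Nat.Prime 2) := ⟨Nat.prime_two⟩
  have hpos : ∀ i, 0 < e i := fun i => Nat.pos_of_ne_zero fun h0 => by
    have := hd1 i
    simp only [h0] at this
    simp at this
  obtain ⟨i, j, hne, hij⟩ : ∃ i j, i ≠ j ∧ e i = e j := by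
    by_contra hno
    push Not at hno
    have hinj : Function.Injective e := fun i j h => by
      by_contra hne; exact hno i j hne h
    exact hα1 (by simpa using
      (CfsgLib.Fusion.AbelianChain.good_of_distinct hX e hinj φ _ (odd_zpowers hα)).2 α (Subgroup.mem_zpowers α))
  -- two factors only
  have hι : Fintype.card ι ≤ 2 := by
    let g : (ι → Bool) → {x : X // x ^ 2 = 1} := fun s => ⟨φ.symm fun i =>
      if s i then Multiplicative.ofAdd ((2 ^ (e i - 1) : ℕ) : ZMod (2 ^ e i)) else 1, by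
      rw [← map_pow]
      refine (congrArg φ.symm (funext fun i => ?_)).trans (map_one φ.symm)
      rw [Pi.pow_apply, Pi.one_apply]
      split_ifs
      · refine Multiplicative.toAdd.injective ?_
        rw [toAdd_pow, toAdd_ofAdd, toAdd_one, nsmul_eq_mul, ← Nat.cast_mul, ← pow_succ',
          Nat.sub_add_cancel (hpos i), ZMod.natCast_self]
      · exact one_pow _⟩
    have hg : Function.Injective g := fun s s' h => funext fun i => by
      have h1 := congrFun (φ.symm.injective (congrArg Subtype.val h)) i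
      have h2 : Multiplicative.ofAdd ((2 ^ (e i - 1) : ℕ) : ZMod (2 ^ e i)) ≠ 1 := fun h0 => by
        have h3 := congrArg Multiplicative.toAdd h0
        rw [toAdd_ofAdd, toAdd_one, ZMod.natCast_eq_zero_iff, Nat.pow_dvd_pow_iff_le_right (by norm_num)] at h3
        have := hpos i; omega
      cases hs : s i <;> cases hs' : s' i <;> simp only [hs, hs'] at h1 ⊢
      · exact absurd h1.symm (by simpa using h2)
      · exact absurd h1 (by simpa using h2)
    have h4 := (Nat.card_le_card_of_injective g hg).trans (card_sq_eq_one_le hm hab)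
    rw [Nat.card_fun, Nat.card_eq_fintype_card (α := Bool), Fintype.card_bool, Nat.card_eq_fintype_card] at h4
    exact (Nat.pow_le_pow_iff_right (by norm_num)).mp (h4.trans (le_of_eq (show (4 : ℕ) = 2 ^ 2 by norm_num)))
  have huniv : ∀ k, k = i ∨ k = j := by
    intro k
    by_contra hk
    push Not at hk
    have h3 : ({k, i, j} : Finset ι).card = 3 := Finset.card_eq_three.mpr ⟨k, i, j, hk.1, hk.2, hne, rfl⟩
    have := Finset.card_le_univ ({k, i, j} : Finset ι)
    omega
  let c : Multiplicative (ZMod (2 ^ e j)) ≃* Multiplicative (ZMod (2 ^ e i)) :=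
    (ZMod.ringEquivCongr (congrArg (2 ^ ·) hij.symm)).toAddEquiv.toMultiplicative
  let ψ : (∀ k, Multiplicative (ZMod (2 ^ e k))) →* Multiplicative (ZMod (2 ^ e i)) × Multiplicative (ZMod (2 ^ e i)) :=
    MonoidHom.mk' (fun f => (f i, c (f j))) fun f g => Prod.ext rfl (map_mul c (f j) (g j))
  refine ⟨e i, hpos i, ⟨φ.trans (MulEquiv.ofBijective ψ ⟨fun f g h => ?_, fun q => ?_⟩)⟩⟩
  · simp only [ψ, MonoidHom.mk'_apply, Prod.mk.injEq] at h
    funext k
    rcases huniv k with rfl | rfl
    · exact h.1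
    · exact c.injective h.2
  · refine ⟨fun k => if hki : k = i then hki ▸ q.1 else if hkj : k = j then hkj ▸ c.symm q.2 else 1, ?_⟩
    exact Prod.ext (by simp [ψ]) (by simp [ψ, hne.symm])

theorem exists_three_maximal (α : MulAut X) (hα : Odd (orderOf α)) (N : Subgroup X) (hne : N.map α.toMonoidHom ≠ N) :
    (N.map α.toMonoidHom).map α.toMonoidHom ≠ N := by
  intro h
  obtain ⟨k, hk⟩ := hα
  have key : ∀ j, N.map ((α ^ (2 * j) : MulAut X)).toMonoidHom = N := by
    intro j
    induction j with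
    | zero =>
      rw [mul_zero, pow_zero]
      exact Subgroup.map_id N
    | succ j ih =>
      rw [show α ^ (2 * (j + 1)) = α ^ 2 * α ^ (2 * j) by rw [← pow_add]; congr 1; omega,
        show (α ^ 2 * α ^ (2 * j) : MulAut X).toMonoidHom = ((α ^ 2 : MulAut X)).toMonoidHom.comp (α ^ (2 * j) : MulAut X).toMonoidHom from rfl,
        ← Subgroup.map_map, ih, pow_two,
        show (α * α : MulAut X).toMonoidHom = α.toMonoidHom.comp α.toMonoidHom from rfl, ← Subgroup.map_map, h]
  refine hne ?_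
  have h1 := key k
  have h2 : α * α ^ (2 * k) = 1 := by rw [← pow_succ', ← hk]; exact pow_orderOf_eq_one α
  conv_lhs => rw [← h1, Subgroup.map_map, show α.toMonoidHom.comp (α ^ (2 * k) : MulAut X).toMonoidHom = (α * α ^ (2 * k) : MulAut X).toMonoidHom from rfl, h2]
  exact Subgroup.map_id N

/-- Order eight. -/
theorem quaternion_of_eight (h8 : Nat.card X = 8) (hna : ¬ ∀ a b : X, a * b = b * a) {α : MulAut X}
    (hα : Odd (orderOf α)) (N : Subgroup X) (hN4 : Nat.card ↥N = 4) (hc : IsCyclic ↥N)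
    (hmove : N.map α.toMonoidHom ≠ N) (z : X) (hzN : z ∈ N) (hz : orderOf z = 2) (hαz : α z = z) :
    Nonempty (X ≃* QuaternionGroup 2) := by
  classical
  have hX : IsPGroup 2 X := IsPGroup.of_card (n := 3) (by rw [h8]; norm_num)
  set N₁ := N.map α.toMonoidHom with hN₁
  set N₂ := N₁.map α.toMonoidHom with hN₂
  have h12 : N₂ ≠ N₁ := fun e => hmove (Subgroup.map_injective (f := α.toMonoidHom) α.injective e)
  have h02 : N₂ ≠ N := exists_three_maximal α hα N hmove
  have hcard1 : Nat.card ↥N₁ = 4 := by rw [hN₁, Subgroup.card_map_of_injective (f := α.toMonoidHom) α.injective, hN4]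
  have hcard2 : Nat.card ↥N₂ = 4 := by rw [hN₂, Subgroup.card_map_of_injective (f := α.toMonoidHom) α.injective, hcard1]
  -- the only involution of `N` is `z`
  have hinv : ∀ M : Subgroup X, IsCyclic ↥M → z ∈ M → ∀ x ∈ M, orderOf x = 2 → x = z := by
    intro M hM hzM x hx hx2
    haveI := Fintype.ofFinite ↥M
    haveI := hM
    by_contra hne
    have h := IsCyclic.card_pow_eq_one_le (α := ↥M) (show 0 < 2 by norm_num)
    have hsub : ({1, ⟨z, hzM⟩, ⟨x, hx⟩} : Finset ↥M) ⊆ ({a : ↥M | a ^ 2 = 1} : Finset ↥M) := by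
      intro a ha
      simp only [Finset.mem_insert, Finset.mem_singleton] at ha
      simp only [Finset.mem_filter, Finset.mem_univ, true_and]
      rcases ha with rfl | rfl | rfl
      · exact one_pow 2
      · exact Subtype.ext (by simpa using hz ▸ pow_orderOf_eq_one z)
      · exact Subtype.ext (by simpa using hx2 ▸ pow_orderOf_eq_one x)
    have h3 : ({1, ⟨z, hzM⟩, ⟨x, hx⟩} : Finset ↥M).card = 3 := Finset.card_eq_three.mpr ⟨_, _, _,
      fun e => by rw [show z = 1 from congrArg Subtype.val e.symm, orderOf_one] at hz; omega,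
      fun e => by rw [show x = 1 from congrArg Subtype.val e.symm, orderOf_one] at hx2; omega,
      fun e => hne (congrArg Subtype.val e).symm, rfl⟩
    have := Finset.card_le_card hsub
    omega
  have hzN₁ : z ∈ N₁ := ⟨z, hzN, hαz⟩
  have hzN₂ : z ∈ N₂ := ⟨z, hzN₁, hαz⟩
  have hc1 : IsCyclic ↥N₁ := (Subgroup.equivMapOfInjective N α.toMonoidHom α.injective).isCyclic.mp hc
  have hc2 : IsCyclic ↥N₂ := (Subgroup.equivMapOfInjective N₁ α.toMonoidHom α.injective).isCyclic.mp hc1
  -- they cover the group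
  have hinf : ∀ A B : Subgroup X, Nat.card ↥A = 4 → Nat.card ↥B = 4 → A ≠ B → z ∈ A → z ∈ B →
      ∀ x ∈ A, x ∈ B → x ∈ Subgroup.zpowers z := by
    intro A B hA hB hAB hzA hzB x hxA hxB
    have hle : Subgroup.zpowers z ≤ A ⊓ B := le_inf (Subgroup.zpowers_le.mpr hzA) (Subgroup.zpowers_le.mpr hzB)
    have h2 : Nat.card ↥(A ⊓ B) ≤ 2 := by
      have hlt : A ⊓ B < A := lt_of_le_of_ne inf_le_left fun e =>
        hAB (Subgroup.eq_of_le_of_card_ge (e.ge.trans inf_le_right) (by rw [hA, hB]))
      haveI : Fact (Nat.Prime 2) := ⟨Nat.prime_two⟩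
      have := CfsgLib.Fusion.MaxClassSeries.card_mul_le hX hlt
      omega
    exact (Subgroup.eq_of_le_of_card_ge hle (by rwa [Nat.card_zpowers, hz])).ge ⟨hxA, hxB⟩
  have hcover : ∀ x : X, x ∈ N ∨ x ∈ N₁ ∨ x ∈ N₂ := by
    haveI := Fintype.ofFinite X
    let T : Subgroup X → Finset X := fun A => Finset.univ.filter fun x => x ∈ A ∧ x ∉ Subgroup.zpowers z
    have hT : ∀ A : Subgroup X, Nat.card ↥A = 4 → z ∈ A → (T A).card = 2 := by
      intro A hA hzA
      have h1 : (Finset.univ.filter fun x => x ∈ A).card = 4 := by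
        rw [← Fintype.card_subtype, ← Nat.card_eq_fintype_card]; exact hA
      have h2 : (Finset.univ.filter fun x => x ∈ Subgroup.zpowers z).card = 2 := by
        rw [← Fintype.card_subtype, ← Nat.card_eq_fintype_card]; exact (Nat.card_zpowers z).trans hz
      have h3 : T A = (Finset.univ.filter fun x => x ∈ A) \ (Finset.univ.filter fun x => x ∈ Subgroup.zpowers z) := by
        ext x; simp [T]
      rw [h3, Finset.card_sdiff_of_subset (fun x hx => by
        simp only [Finset.mem_filter, Finset.mem_univ, true_and] at hx ⊢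
        exact Subgroup.zpowers_le.mpr hzA hx), h1, h2]
    have hdis : ∀ A B : Subgroup X, Nat.card ↥A = 4 → Nat.card ↥B = 4 → A ≠ B → z ∈ A → z ∈ B → Disjoint (T A) (T B) :=
      fun A B hA hB hAB hzA hzB => Finset.disjoint_left.mpr fun x hxA hxB => by
        simp only [T, Finset.mem_filter, Finset.mem_univ, true_and] at hxA hxB
        exact hxA.2 (hinf A B hA hB hAB hzA hzB x hxA.1 hxB.1)
    set Z := Finset.univ.filter fun x => x ∈ Subgroup.zpowers z with hZ
    have hZc : Z.card = 2 := by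
      rw [hZ, ← Fintype.card_subtype, ← Nat.card_eq_fintype_card]; exact (Nat.card_zpowers z).trans hz
    have hdZ : Disjoint Z (T N ∪ T N₁ ∪ T N₂) := Finset.disjoint_left.mpr fun x hx hx' => by
      simp only [hZ, T, Finset.mem_union, Finset.mem_filter, Finset.mem_univ, true_and] at hx hx'
      rcases hx' with (h | h) | h <;> exact h.2 hx
    have hfull : Z ∪ (T N ∪ T N₁ ∪ T N₂) = Finset.univ := Finset.eq_univ_of_card _ (by
      rw [Finset.card_union_of_disjoint hdZ, Finset.card_union_of_disjoint (Finset.disjoint_union_left.mpr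
        ⟨hdis _ _ hN4 hcard2 h02.symm hzN hzN₂, hdis _ _ hcard1 hcard2 h12.symm hzN₁ hzN₂⟩),
        Finset.card_union_of_disjoint (hdis _ _ hN4 hcard1 (Ne.symm hmove) hzN hzN₁), hZc, hT N hN4 hzN,
        hT N₁ hcard1 hzN₁, hT N₂ hcard2 hzN₂, ← Nat.card_eq_fintype_card, h8])
    intro x
    have hx := hfull.ge (Finset.mem_univ x)
    simp only [hZ, T, Finset.mem_union, Finset.mem_filter, Finset.mem_univ, true_and] at hx
    rcases hx with h | (h | h) | h
    · exact Or.inl (Subgroup.zpowers_le.mpr hzN h)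
    · exact Or.inl h.1
    · exact Or.inr (Or.inl h.1)
    · exact Or.inr (Or.inr h.1)
  have huniq : CfsgLib.UniqueOrderP.Uniq 2 X := by
    have hall : ∀ x : X, orderOf x = 2 → x = z := fun x hx => by
      rcases hcover x with h | h | h
      · exact hinv N hc hzN x h hx
      · exact hinv N₁ hc1 hzN₁ x h hx
      · exact hinv N₂ hc2 hzN₂ x h hx
    intro x y hx hy
    rw [hall x hx, hall y hy]
    exact Subgroup.mem_zpowers z
  haveI : Fact (Nat.Prime 2) := ⟨Nat.prime_two⟩
  rcases CfsgLib.UniqueOrderP.cyclic_or_quaternion hX huniq with hcyc | ⟨-, m, ⟨q⟩⟩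
  · exact absurd (fun a b => by
      letI := hcyc.commGroup
      exact mul_comm a b) hna
  · haveI : NeZero (2 ^ m) := ⟨pow_ne_zero _ (by norm_num)⟩
    have h1 := Nat.card_congr q.toEquiv
    rw [h8, Nat.card_eq_fintype_card, QuaternionGroup.card] at h1
    obtain rfl : m = 1 := Nat.pow_right_injective (le_refl 2) (show 2 ^ m = 2 ^ 1 by omega)
    exact ⟨q⟩

/-- A metacyclic `2`-group with an automorphism of odd order is quaternion of order eight or homocyclic of rank two. -/
theorem main : ∀ (m : ℕ) (X : Type u) [Group X] [Finite X], Nat.card X = 2 ^ m → Cfsg.IsMetacyclic X →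
    ∀ α : MulAut X, Odd (orderOf α) → α ≠ 1 → Nonempty (X ≃* QuaternionGroup 2) ∨
      ∃ n : ℕ, 0 < n ∧ Nonempty (X ≃* Multiplicative (ZMod (2 ^ n)) × Multiplicative (ZMod (2 ^ n))) := by
  intro m
  induction m using Nat.strong_induction_on with
  | _ m ih =>
  intro X _ _ hcard hm α hα hα1
  have hX : IsPGroup 2 X := IsPGroup.of_card hcard
  haveI : Fact (Nat.Prime 2) := ⟨Nat.prime_two⟩
  by_cases hab : ∀ a b : X, a * b = b * a
  · exact Or.inr (homocyclic hX hm hab hα hα1)
  obtain ⟨N, hNn, hNc, hNq⟩ := hm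
  haveI := hNn
  haveI := hNc
  have hmove : N.map α.toMonoidHom ≠ N := fun e => hα1 (eq_one_of_fixed hX hα N hNc hNq fun y hy => e ▸ ⟨y, hy, rfl⟩)
  have hcomN : commutator X ≤ N := by
    refine (Subgroup.Normal.quotient_commutative_iff_commutator_le).mp ⟨⟨fun a b => ?_⟩⟩
    letI := hNq.commGroup
    exact mul_comm a b
  obtain ⟨⟨z, hzC⟩, hz⟩ := exists_prime_orderOf_dvd_card' 2 (G := ↥(commutator X)) (by
    obtain ⟨k, hk⟩ := IsPGroup.iff_card.mp (hX.to_subgroup (commutator X))
    rcases Nat.eq_zero_or_pos k with rfl | hk0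
    · exfalso
      rw [pow_zero] at hk
      exact hab fun a b => commutatorElement_eq_one_iff_mul_comm.mp (Subgroup.mem_bot.mp
        (Subgroup.eq_bot_of_card_eq _ hk ▸ Subgroup.commutator_mem_commutator (Subgroup.mem_top a) (Subgroup.mem_top b)))
    · exact hk ▸ dvd_pow_self 2 hk0.ne')
  rw [Subgroup.orderOf_mk] at hz
  have hzN : z ∈ N := hcomN hzC
  have huz : ∀ y ∈ N, y ^ 2 = 1 → y = 1 ∨ y = z := by
    intro y hy hy2
    by_contra hne
    push Not at hne
    haveI := Fintype.ofFinite ↥N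
    classical
    have h := IsCyclic.card_pow_eq_one_le (α := ↥N) (show 0 < 2 by norm_num)
    have hsub : ({1, ⟨z, hzN⟩, ⟨y, hy⟩} : Finset ↥N) ⊆ ({a : ↥N | a ^ 2 = 1} : Finset ↥N) := by
      intro a ha
      simp only [Finset.mem_insert, Finset.mem_singleton] at ha
      simp only [Finset.mem_filter, Finset.mem_univ, true_and]
      rcases ha with rfl | rfl | rfl
      · exact one_pow 2
      · exact Subtype.ext (by simpa using hz ▸ pow_orderOf_eq_one z)
      · exact Subtype.ext (by simpa using hy2)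
    have h3 : ({1, ⟨z, hzN⟩, ⟨y, hy⟩} : Finset ↥N).card = 3 := Finset.card_eq_three.mpr ⟨_, _, _,
      fun e => by rw [show z = 1 from congrArg Subtype.val e.symm, orderOf_one] at hz; omega,
      fun e => hne.1 (congrArg Subtype.val e).symm, fun e => hne.2 (congrArg Subtype.val e).symm, rfl⟩
    have := Finset.card_le_card hsub
    omega
  have hz1 : z ≠ 1 := fun e => by rw [e, orderOf_one] at hz; omega
  have hz2 : z ^ 2 = 1 := hz ▸ pow_orderOf_eq_one z
  have hfix : ∀ σ : MulAut X, σ z = z := by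
    intro σ
    have h1 : σ z ∈ commutator X := Subgroup.characteristic_iff_le_comap.mp inferInstance σ hzC
    rcases huz _ (hcomN h1) (by rw [← map_pow, hz2, map_one]) with h | h
    · exact absurd (σ.injective (h.trans (map_one σ).symm)) hz1
    · exact h
  set Z := Subgroup.zpowers z with hZdef
  have hZc : ∀ g : X, g * z = z * g := fun g => by
    have := hfix (MulAut.conj g)
    rw [MulAut.conj_apply] at this
    exact mul_inv_eq_iff_eq_mul.mp this
  haveI hZn : Z.Normal := ⟨fun y hy g => by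
    obtain ⟨k, rfl⟩ := hy
    show g * z ^ k * g⁻¹ ∈ Z
    rw [((show Commute g z from hZc g).zpow_right k).eq, mul_inv_cancel_right]
    exact ⟨k, rfl⟩⟩
  have hZfix : ∀ y ∈ Z, α y = y := by
    rintro _ ⟨k, rfl⟩
    show α (z ^ k) = z ^ k
    rw [map_zpow, hfix]
  have hmapZ : Z.map α.toMonoidHom = Z := le_antisymm (by rintro _ ⟨y, hy, rfl⟩; exact (hZfix y hy).symm ▸ hy)
    fun y hy => ⟨y, hy, hZfix y hy⟩
  set β : MulAut (X ⧸ Z) := QuotientGroup.congr Z Z α hmapZ with hβdef
  have hβ : ∀ y, β (QuotientGroup.mk' Z y) = QuotientGroup.mk' Z (α y) := fun y => rfl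
  have hβpow : ∀ (k : ℕ) y, (β ^ k) (QuotientGroup.mk' Z y) = QuotientGroup.mk' Z ((α ^ k) y) := by
    intro k
    induction k with
    | zero => intro y; rfl
    | succ k ihk => intro y; rw [pow_succ', MulAut.mul_apply, ihk, hβ, pow_succ', MulAut.mul_apply]
  have hβodd : Odd (orderOf β) := by
    refine Odd.of_dvd_nat hα (orderOf_dvd_of_pow_eq_one (MulEquiv.ext fun q => ?_))
    obtain ⟨y, rfl⟩ := QuotientGroup.mk'_surjective Z q
    rw [hβpow, pow_orderOf_eq_one]; rfl
  have hβ1 : β ≠ 1 := fun e => hα1 (eq_one_of_stable hα Z hZfix (fun y hy => by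
      obtain ⟨k, rfl⟩ := hy
      show (z ^ k) ^ 2 = 1
      rw [← zpow_natCast, ← zpow_mul, mul_comm, zpow_mul, zpow_natCast, hz2, one_zpow])
    fun y => QuotientGroup.eq.mp (by
      have := DFunLike.congr_fun e (QuotientGroup.mk' Z y)
      rw [hβ] at this
      exact this.symm))
  have hmq : Cfsg.IsMetacyclic (X ⧸ Z) := by
    refine ⟨N.map (QuotientGroup.mk' Z), hNn.map _ (QuotientGroup.mk'_surjective Z), ?_, ?_⟩
    · exact isCyclic_of_surjective ((QuotientGroup.mk' Z).subgroupMap N) ((QuotientGroup.mk' Z).subgroupMap_surjective N)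
    · haveI := hNn.map _ (QuotientGroup.mk'_surjective Z)
      exact isCyclic_of_surjective (QuotientGroup.map N (N.map (QuotientGroup.mk' Z)) (QuotientGroup.mk' Z)
        (fun y hy => ⟨y, hy, rfl⟩)) (fun q => by
          obtain ⟨q', rfl⟩ := QuotientGroup.mk'_surjective _ q
          obtain ⟨y, rfl⟩ := QuotientGroup.mk'_surjective _ q'
          exact ⟨QuotientGroup.mk' N y, rfl⟩)
  have hcq : Nat.card (X ⧸ Z) * 2 = 2 ^ m := by
    rw [← hcard, Subgroup.card_eq_card_quotient_mul_card_subgroup Z, hZdef, Nat.card_zpowers, hz]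
  have hm1 : 1 ≤ m := by
    by_contra h0
    obtain rfl : m = 0 := by omega
    simp at hcq
  have hcq' : Nat.card (X ⧸ Z) = 2 ^ (m - 1) := by
    rw [show 2 ^ m = 2 ^ (m - 1) * 2 by rw [← pow_succ]; congr 1; omega] at hcq
    omega
  rcases ih (m - 1) (by omega) (X ⧸ Z) hcq' hmq β hβodd hβ1 with ⟨⟨q⟩⟩ | ⟨n, hn, ⟨e⟩⟩
  · -- no group of order sixteen over `Q₈`
    exfalso
    have h8 : Nat.card (X ⧸ Z) = 8 := by
      rw [Nat.card_congr q.toEquiv, Nat.card_eq_fintype_card, QuaternionGroup.card]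
    have h16 : Nat.card X = 16 := by rw [hcard]; omega
    -- some commutator avoids `Z`
    obtain ⟨a, b, hab'⟩ : ∃ a b : X, ⁅a, b⁆ ∉ Z := by
      obtain ⟨u, hu⟩ := QuotientGroup.mk'_surjective Z (q.symm (QuaternionGroup.a 1))
      obtain ⟨v, hv⟩ := QuotientGroup.mk'_surjective Z (q.symm (QuaternionGroup.xa 0))
      refine ⟨u, v, fun h => ?_⟩
      have h1 := congrArg q ((QuotientGroup.eq_one_iff _).mpr h)
      rw [← QuotientGroup.mk'_apply, map_commutatorElement, map_commutatorElement, hu, hv, q.apply_symm_apply,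
        q.apply_symm_apply, map_one] at h1
      revert h1
      decide
    have hlt : Z < commutator X := lt_of_le_of_ne (Subgroup.zpowers_le.mpr hzC) fun e =>
      hab' (e.ge (Subgroup.commutator_mem_commutator (Subgroup.mem_top a) (Subgroup.mem_top b)))
    have hcomN' : commutator X < N := lt_of_le_of_ne hcomN fun e => by
      haveI : IsCyclic (X ⧸ commutator X) := e ▸ hNq
      exact hab (comm_of_cyclic hX this)
    have hN8 : N.index = 2 := by
      have l1 := CfsgLib.Fusion.MaxClassSeries.card_mul_le hX hlt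
      have l2 := CfsgLib.Fusion.MaxClassSeries.card_mul_le hX hcomN'
      rw [show Nat.card ↥Z = 2 by rw [hZdef, Nat.card_zpowers, hz]] at l1
      have h := N.card_mul_index
      rw [h16] at h
      have hne1 : N.index ≠ 1 := fun h1 => hab fun x y => by
        letI := hNc.commGroup
        have hx : ∀ w : X, w ∈ N := fun w => (Subgroup.index_eq_one.mp h1) ▸ Subgroup.mem_top w
        exact congrArg Subtype.val (mul_comm (⟨x, hx x⟩ : ↥N) ⟨y, hx y⟩)
      have hpos := N.index_ne_zero_of_finite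
      rcases (Nat.dvd_prime_pow Nat.prime_two).mp (show Nat.card ↥N ∣ 2 ^ 4 from (by rw [← h]; exact Dvd.intro _ rfl : Nat.card ↥N ∣ 16)) with ⟨k, hk, hke⟩
      rw [hke] at h l2
      interval_cases k <;> omega
    set M := N.map α.toMonoidHom with hM
    have hMi : M.index = 2 := by
      have h1 := M.card_mul_index
      have h2 := N.card_mul_index
      rw [hM, Subgroup.card_map_of_injective (f := α.toMonoidHom) α.injective] at h1
      rw [← hM, ← h2] at h1
      rw [Nat.eq_of_mul_eq_mul_left Nat.card_pos h1, hN8]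
    obtain ⟨g, hgM, hgN⟩ : ∃ g ∈ M, g ∉ N := by
      by_contra hno
      push Not at hno
      exact hmove (Subgroup.eq_of_le_of_card_ge hno (by rw [hM, Subgroup.card_map_of_injective (f := α.toMonoidHom) α.injective]))
    have hcen : ∀ w, w ∈ N → w ∈ M → ∀ y, y * w = w * y := by
      intro w hwN hwM y
      have hcM : IsCyclic ↥M := (Subgroup.equivMapOfInjective N α.toMonoidHom α.injective).isCyclic.mp hNc
      have hcom : ∀ (A : Subgroup X), IsCyclic ↥A → ∀ u ∈ A, ∀ v ∈ A, u * v = v * u := fun A hA u hu v hv => by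
        letI := hA.commGroup
        exact congrArg Subtype.val (mul_comm (⟨u, hu⟩ : ↥A) ⟨v, hv⟩)
      by_cases hyN : y ∈ N
      · exact hcom N hNc y hyN w hwN
      · have hgy : g⁻¹ * y ∈ N := (Subgroup.mul_mem_iff_of_index_two hN8).mpr (by simp [hgN, hyN])
        rw [show y = g * (g⁻¹ * y) by group, mul_assoc, hcom N hNc _ hgy w hwN, ← mul_assoc, hcom M hcM g hgM w hwM, mul_assoc]
    refine hlt.not_ge ?_
    have hMn : M.Normal := Subgroup.normal_of_index_eq_two hMi
    have hcomM : commutator X ≤ M := by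
      rw [hM]
      intro y hy
      exact ⟨α.symm y, hcomN (Subgroup.characteristic_iff_le_comap.mp inferInstance α.symm hy), α.apply_symm_apply y⟩
    rw [commutator_eq_closure, Subgroup.closure_le]
    rintro _ ⟨u, v, rfl⟩
    have hc : ⁅u, v⁆ ∈ commutator X := Subgroup.commutator_mem_commutator (Subgroup.mem_top u) (Subgroup.mem_top v)
    have hcc := hcen _ (hcomN hc) (hcomM hc)
    have hu2 := hcen _ (Subgroup.sq_mem_of_index_two hN8 u) (Subgroup.sq_mem_of_index_two hMi u)
    have h2 : ⁅u, v⁆ ^ 2 = 1 := by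
      have e1 : ⁅u ^ 2, v⁆ = u * ⁅u, v⁆ * u⁻¹ * ⁅u, v⁆ := by simp only [commutatorElement_def, pow_two]; group
      rw [hcc u, mul_inv_cancel_right, ← pow_two] at e1
      rw [← e1, commutatorElement_eq_one_iff_mul_comm]
      exact (hu2 v).symm
    rcases huz _ (hcomN hc) h2 with h | h <;> rw [h]
    · exact Z.one_mem
    · exact Subgroup.mem_zpowers z
  · -- homocyclic quotient: class two, squares central
    have hcommZ : ∀ u v : X, ⁅u, v⁆ ∈ Z := fun u v => (QuotientGroup.eq_one_iff _).mp (by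
      rw [← QuotientGroup.mk'_apply, map_commutatorElement]
      refine e.injective ?_
      rw [map_commutatorElement, map_one]
      exact commutatorElement_eq_one_iff_mul_comm.mpr (mul_comm _ _))
    have hZcen : ∀ c ∈ Z, ∀ g, g * c = c * g := by
      rintro _ ⟨k, rfl⟩ g
      exact ((show Commute g z from hZc g).zpow_right k).eq
    have hexp : ∀ y, y ^ 2 ^ n ∈ Z := fun y => (QuotientGroup.eq_one_iff _).mp (by
      rw [QuotientGroup.mk_pow]
      refine e.injective ?_
      rw [map_pow, map_one]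
      refine Prod.ext ?_ ?_ <;> exact Multiplicative.toAdd.injective (by simp))
    have hq2 : Nat.card (X ⧸ Z) = 2 ^ n * 2 ^ n := by
      rw [Nat.card_congr e.toEquiv, Nat.card_prod, Nat.card_congr Multiplicative.toAdd, Nat.card_zmod]
    obtain ⟨a, ha⟩ := hNc.exists_generator
    have hord : Nat.card ↥N = 2 ^ (n + 1) := by
      -- cyclic pieces of a group of exponent `2 ^ n` over `Z`
      have hle1 : Nat.card ↥N ≤ 2 ^ (n + 1) := by
        rw [← orderOf_eq_card_of_forall_mem_zpowers ha]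
        refine Nat.le_of_dvd (Nat.pow_pos (by norm_num)) (orderOf_dvd_of_pow_eq_one (Subtype.ext ?_))
        obtain ⟨k, hk⟩ := hexp (a : X)
        change z ^ k = _ at hk
        show (a : X) ^ 2 ^ (n + 1) = 1
        rw [pow_succ, pow_mul, ← hk, ← zpow_natCast, ← zpow_mul, mul_comm, zpow_mul, zpow_natCast, hz2, one_zpow]
      have hle2 : N.index ≤ 2 ^ n := by
        obtain ⟨b, hb⟩ := hNq.exists_generator
        rw [Subgroup.index, ← orderOf_eq_card_of_forall_mem_zpowers hb]
        obtain ⟨y, rfl⟩ := QuotientGroup.mk'_surjective N b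
        refine Nat.le_of_dvd (Nat.pow_pos (by norm_num)) (orderOf_dvd_of_pow_eq_one ?_)
        rw [← map_pow]
        exact (QuotientGroup.eq_one_iff _).mpr (Subgroup.zpowers_le.mpr hzN (hexp y))
      have h := N.card_mul_index
      rw [Subgroup.card_eq_card_quotient_mul_card_subgroup Z, hq2, hZdef, Nat.card_zpowers, hz] at h
      refine le_antisymm hle1 ?_
      have h2 : 2 ^ (n + 1) * 2 ^ n ≤ Nat.card ↥N * 2 ^ n := by
        rw [pow_succ, mul_right_comm]; exact h.ge.trans (Nat.mul_le_mul_left _ hle2)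
      exact Nat.le_of_mul_le_mul_right h2 (Nat.pow_pos (by norm_num))
    rcases (by omega : n = 1 ∨ 2 ≤ n) with rfl | hn2
    · refine Or.inl (quaternion_of_eight ?_ hab hα N hord hNc hmove z hzN hz (hfix α))
      rw [Subgroup.card_eq_card_quotient_mul_card_subgroup Z, hq2, hZdef, Nat.card_zpowers, hz]
      norm_num
    exfalso
    have hpm : ∀ u v : X, (u * v) ^ 2 ^ n = u ^ 2 ^ n * v ^ 2 ^ n := fun u v => by
      rw [CfsgLib.Fusion.EssentialFour.mul_pow_of_central (fun g => hZcen _ (hcommZ v u) g)]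
      obtain ⟨k, hk⟩ := hcommZ v u
      change z ^ k = _ at hk
      obtain ⟨r, hr⟩ : 2 ∣ (2 ^ n).choose 2 := by
        refine ⟨2 ^ (n - 2) * (2 ^ n - 1), ?_⟩
        rw [Nat.choose_two_right, show 2 ^ n = 2 * (2 * 2 ^ (n - 2)) by rw [← pow_succ', ← pow_succ']; congr 1; omega]
        rw [mul_assoc, Nat.mul_div_cancel_left _ (by norm_num : 0 < 2), mul_assoc]
      rw [← hk, ← zpow_natCast (z ^ k), ← zpow_mul, hr, Nat.cast_mul, ← mul_assoc, mul_comm (k * _), ← mul_assoc,
        mul_comm _ ((2 : ℕ) : ℤ), mul_assoc, zpow_mul, zpow_natCast, hz2, one_zpow, one_mul]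
    let f : X →* ↥Z := MonoidHom.mk' (fun y => ⟨y ^ 2 ^ n, hexp y⟩) fun u v => Subtype.ext (hpm u v)
    have hfa : f a ≠ 1 := fun h => by
      have h1 : (a : X) ^ 2 ^ n = 1 := congrArg Subtype.val h
      have h2 := orderOf_eq_card_of_forall_mem_zpowers ha
      rw [hord, ← Subgroup.orderOf_coe] at h2
      have h3 := Nat.le_of_dvd (Nat.pow_pos (by norm_num)) (h2 ▸ orderOf_dvd_of_pow_eq_one h1)
      exact absurd h3 (Nat.not_le.mpr (Nat.pow_lt_pow_right (by norm_num) (Nat.lt_succ_self n)))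
    set K := f.ker with hK
    have hKi : K.index = 2 := by
      rw [hK, Subgroup.index_ker]
      have h1 : f.range = ⊤ := by
        refine Subgroup.eq_top_of_le_card _ ?_
        rw [show Nat.card ↥Z = 2 from (Nat.card_zpowers z).trans hz]
        haveI : Nontrivial ↥f.range :=
          nontrivial_of_ne (⟨f a, a, rfl⟩ : ↥f.range) 1 fun e => hfa (congrArg Subtype.val e)
        exact Finite.one_lt_card
      rw [h1, Subgroup.card_top]
      exact (Nat.card_zpowers z).trans hz
    have hZK : Z ≤ K := fun c hc => Subtype.ext (by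
      show c ^ 2 ^ n = 1
      obtain ⟨k, rfl⟩ := hc
      show (z ^ k) ^ 2 ^ n = 1
      rw [show 2 ^ n = 2 * 2 ^ (n - 1) by rw [← pow_succ']; congr 1; omega, pow_mul, ← zpow_natCast (z ^ k) 2,
        ← zpow_mul, mul_comm, zpow_mul, zpow_natCast, hz2, one_zpow, one_pow])
    letI : CommGroup (X ⧸ Z) := { (inferInstance : Group (X ⧸ Z)) with
      mul_comm := fun a b => e.injective (by rw [map_mul, map_mul, mul_comm]) }
    refine hβ1 (eq_one_of_index_two hn e hβodd (K.map (QuotientGroup.mk' Z)) ?_ ?_)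
    · rw [Subgroup.index_map_eq _ (QuotientGroup.mk'_surjective Z) (by rw [QuotientGroup.ker_mk']; exact hZK), hKi]
    · rintro _ ⟨y, hy, rfl⟩
      refine ⟨α y, ?_, (hβ y).symm⟩
      refine Subtype.ext ?_
      show (α y) ^ 2 ^ n = 1
      rw [← map_pow, show y ^ 2 ^ n = 1 from congrArg Subtype.val hy, map_one]

end CfsgLib.Metacyclic.TwoAut
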