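import Cfsg.Agent.Lib.Metacyclic.TwoAut
import Cfsg.Agent.Lib.MaxClass.Suzuki
import Cfsg.Agent.Lib.MaximalClassTwoIso
import Cfsg.Agent.Lib.Fusion.PStable
import Cfsg.Agent.Lib.Fusion.StrongInvariance
import Cfsg.Agent.Lib.Fusion.AbelianIndexPLocal
import Cfsg.Prelude.Def_CaseTheorems

/-! Metacyclic strongly closed subgroups at the prime two. (helper6) -/

set_option autoImplicit false
set_option linter.unusedSectionVars false
set_option linter.style.haveILetI false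

universe u v

namespace CfsgLib.Metacyclic.TwoFusion

section Groups

variable {X : Type u} [Group X]

theorem of_injective {Y : Type v} [Group Y] (hm : Cfsg.IsMetacyclic X) (f : Y →* X) (hf : Function.Injective f) :
    Cfsg.IsMetacyclic Y := by
  obtain ⟨N, hN, hc, hq⟩ := hm
  haveI := hN
  haveI := hc
  haveI := hq
  refine ⟨N.comap f, hN.comap f, ?_, ?_⟩
  · exact isCyclic_of_injective (f.subgroupComap N) fun a b h => Subtype.ext (hf (congrArg Subtype.val h))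
  · refine isCyclic_of_injective (QuotientGroup.map (N.comap f) N f le_rfl) ?_
    rw [← MonoidHom.ker_eq_bot_iff, eq_bot_iff]
    intro q hq
    obtain ⟨y, rfl⟩ := QuotientGroup.mk'_surjective _ q
    exact Subgroup.mem_bot.mpr ((QuotientGroup.eq_one_iff y).mpr ((QuotientGroup.eq_one_iff (f y)).mp hq))

theorem four_sq : ∀ w : Multiplicative (ZMod (2 ^ 1)) × Multiplicative (ZMod (2 ^ 1)), w ^ 2 = 1 := by decide

theorem exists_odd {G : Type*} [Group G] [Finite G] (h : ¬ IsPGroup 2 G) : ∃ a : G, Odd (orderOf a) ∧ a ≠ 1 := by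
  by_contra hno
  refine h fun a => ?_
  obtain ⟨k, j, hj, hkj⟩ := Nat.exists_eq_pow_mul_and_not_dvd (orderOf_pos a).ne' 2 (by norm_num)
  refine ⟨k, ?_⟩
  by_contra hne
  refine hno ⟨a ^ 2 ^ k, ?_, hne⟩
  rw [orderOf_pow' a (pow_ne_zero k (by norm_num)), hkj, Nat.gcd_mul_right_left,
    Nat.mul_div_cancel_left _ (Nat.two_pow_pos k)]
  exact Nat.not_even_iff_odd.mp fun h => hj (even_iff_two_dvd.mp h)

/-- A group with a self-centralizing four group or quaternion group is dihedral, semidihedral or quaternion. -/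
theorem small_selfcentralizing [Finite X] (hX : IsPGroup 2 X) (T : Subgroup X)
    (hC : Subgroup.centralizer (T : Set X) ≤ T)
    (h : Nonempty (↥T ≃* QuaternionGroup 2) ∨
      Nonempty (↥T ≃* Multiplicative (ZMod (2 ^ 1)) × Multiplicative (ZMod (2 ^ 1)))) :
    (∃ m : ℕ, Nonempty (X ≃* DihedralGroup m)) ∨ (∃ m : ℕ, Nonempty (X ≃* QuaternionGroup m)) ∨
      Cfsg.IsQuasiDihedral X := by
  haveI : Fact (Nat.Prime 2) := ⟨Nat.prime_two⟩
  obtain ⟨m, hm⟩ := IsPGroup.iff_card.mp hX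
  haveI := hX.isNilpotent
  have fin : ∀ (_ : 3 ≤ m), Group.nilpotencyClass X = m - 1 →
      (∃ m : ℕ, Nonempty (X ≃* DihedralGroup m)) ∨ (∃ m : ℕ, Nonempty (X ≃* QuaternionGroup m)) ∨
        Cfsg.IsQuasiDihedral X := by
    intro h3 hcl
    rcases CfsgLib.MaximalClassTwoIso.classify h3 hm
        (CfsgLib.MaximalClassTwo.main m X h3 hm (Or.inl hcl)).2.1 with
      ⟨k, e⟩ | ⟨k, hk, a, b, ha, hb, hab⟩ | ⟨k, e⟩
    · exact Or.inl ⟨_, e⟩
    · exact Or.inr (Or.inr ⟨k + 3, by omega, hk, a, b, ha, hb, by simpa using hab⟩)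
    · exact Or.inr (Or.inl ⟨_, e⟩)
  have hdvd := Subgroup.card_subgroup_dvd_card T
  rw [hm] at hdvd
  rcases h with ⟨⟨q⟩⟩ | ⟨⟨q⟩⟩
  · have h8 : Nat.card ↥T = 2 ^ 3 := by
      rw [Nat.card_congr q.toEquiv, Nat.card_eq_fintype_card, QuaternionGroup.card]; rfl
    rw [h8, Nat.pow_dvd_pow_iff_le_right (by norm_num)] at hdvd
    refine fin hdvd (CfsgLib.MaxClass.maxClass_of_cubed m hm T h8 (fun hc => ?_) hC)
    have h1 := congrArg q (hc.is_comm.comm (q.symm (QuaternionGroup.a 1)) (q.symm (QuaternionGroup.xa 0)))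
    rw [map_mul, map_mul, q.apply_symm_apply, q.apply_symm_apply] at h1
    exact absurd h1 (by decide)
  · have h4 : Nat.card ↥T = 2 ^ 2 := by
      rw [Nat.card_congr q.toEquiv, Nat.card_prod, Nat.card_congr Multiplicative.toAdd, Nat.card_zmod]
      norm_num
    have hCT : Subgroup.centralizer (T : Set X) = T := le_antisymm hC fun a ha =>
      Subgroup.mem_centralizer_iff.mpr fun b hb => congrArg Subtype.val
        (q.injective (by rw [map_mul, map_mul, mul_comm]) : (⟨b, hb⟩ : ↥T) * ⟨a, ha⟩ = ⟨a, ha⟩ * ⟨b, hb⟩)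
    rw [h4, Nat.pow_dvd_pow_iff_le_right (by norm_num)] at hdvd
    rcases (by omega : m = 2 ∨ 3 ≤ m) with rfl | h3
    · refine Or.inl ⟨2, ?_⟩
      have hT : T = ⊤ := Subgroup.eq_top_of_card_eq T (h4.trans hm.symm)
      haveI : Nontrivial X := Finite.one_lt_card_iff_nontrivial.mp (by rw [hm]; norm_num)
      haveI : IsKleinFour X := ⟨hm, (Monoid.exponent_eq_prime_iff Nat.prime_two).mpr fun g hg => by
        refine orderOf_eq_prime ?_ hg
        have hgT : g ∈ T := hT ▸ Subgroup.mem_top g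
        have : (⟨g, hgT⟩ : ↥T) ^ 2 = 1 := q.injective (by
          rw [map_pow, map_one]
          exact four_sq _)
        exact congrArg Subtype.val this⟩
      exact IsKleinFour.nonempty_mulEquiv
    · exact fin h3 (CfsgLib.MaxClass.suzuki m hm T h4 hCT)

/-- Outside a homocyclic subgroup of index two and exponent at least four some element acts trivially modulo squares. -/
theorem exists_trivial_mod_sq [Finite X] (hm : Cfsg.IsMetacyclic X) (R : Subgroup X) (hidx : R.index = 2)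
    (hab : ∀ a ∈ R, ∀ b ∈ R, a * b = b * a) {n : ℕ} (hn : 2 ≤ n) (hexp : ∀ a ∈ R, a ^ 2 ^ n = 1)
    (hcard : Nat.card ↥R = 2 ^ n * 2 ^ n) : ∃ t ∉ R, ∀ x ∈ R, ∃ y ∈ R, t * x * t⁻¹ = x * y ^ 2 := by
  classical
  obtain ⟨M, hMn, hMc, hMq⟩ := hm
  haveI := hMn
  haveI := hMq
  haveI hRn : R.Normal := Subgroup.normal_of_index_eq_two hidx
  obtain ⟨⟨a, haM⟩, ha⟩ := hMc.exists_generator
  have hM : ∀ y ∈ M, ∃ i : ℤ, y = a ^ i := fun y hy => by
    obtain ⟨i, hi⟩ := ha ⟨y, hy⟩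
    exact ⟨i, (congrArg Subtype.val hi).symm⟩
  -- it is enough to treat two generators
  have two : ∀ (t c d : X), c ∈ R → d ∈ R → (∃ y ∈ R, t * c * t⁻¹ = c * y ^ 2) → (∃ y ∈ R, t * d * t⁻¹ = d * y ^ 2) →
      (∀ x ∈ R, ∃ i k : ℤ, x = c ^ i * d ^ k) → ∀ x ∈ R, ∃ y ∈ R, t * x * t⁻¹ = x * y ^ 2 := by
    rintro t c d hc hd ⟨y, hy, hcy⟩ ⟨w, hw, hdw⟩ hgen x hx
    obtain ⟨i, k, rfl⟩ := hgen x hx
    refine ⟨y ^ i * w ^ k, R.mul_mem (R.zpow_mem hy i) (R.zpow_mem hw k), ?_⟩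
    have e : t * (c ^ i * d ^ k) * t⁻¹ = (c * y ^ 2) ^ i * (d * w ^ 2) ^ k := by
      rw [← hcy, ← hdw, conj_zpow, conj_zpow]; group
    have cm : ∀ u ∈ R, ∀ v ∈ R, Commute u v := hab
    rw [e, (cm c hc _ (R.pow_mem hy 2)).mul_zpow, (cm d hd _ (R.pow_mem hw 2)).mul_zpow,
      (cm _ (R.zpow_mem hy i) _ (R.zpow_mem hw k)).mul_pow, ← zpow_natCast (y ^ i), ← zpow_natCast (w ^ k),
      ← zpow_natCast y, ← zpow_natCast w, ← zpow_mul, ← zpow_mul, ← zpow_mul, ← zpow_mul, mul_comm i, mul_comm k]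
    rw [mul_assoc, mul_assoc]
    refine congrArg (c ^ i * ·) ?_
    rw [← mul_assoc, ← (cm _ (R.zpow_mem hd k) _ (R.zpow_mem hy _)).eq, mul_assoc]
  have sq : ∀ u : X, u ^ 2 ∈ R := Subgroup.sq_mem_of_index_two hidx
  have par : ∀ u ∉ R, ∀ i : ℤ, u ^ i ∈ R → ∃ j : ℤ, i = 2 * j := fun u hu i hi => by
    rcases Int.even_or_odd' i with ⟨j, rfl | rfl⟩
    · exact ⟨j, rfl⟩
    · refine absurd ?_ hu
      rw [zpow_add, zpow_one] at hi
      refine (R.mul_mem_cancel_left ?_).mp hi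
      rw [zpow_mul]
      exact R.zpow_mem (by rw [zpow_ofNat]; exact sq u) j
  obtain ⟨b, hb⟩ := hMq.exists_generator
  obtain ⟨t, rfl⟩ := QuotientGroup.mk'_surjective M b
  have hX : ∀ x : X, ∃ i : ℤ, ∃ m ∈ M, x = t ^ i * m := fun x => by
    obtain ⟨i, hi⟩ := hb (QuotientGroup.mk' M x)
    refine ⟨i, (t ^ i)⁻¹ * x, QuotientGroup.eq.mp ?_, (mul_inv_cancel_left _ _).symm⟩
    exact (map_zpow (QuotientGroup.mk' M) t i).trans hi
  by_cases hMR : M ≤ R
  · have htR : t ∉ R := fun h => by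
      have : R = ⊤ := eq_top_iff.mpr fun x _ => by
        obtain ⟨i, m, hm, rfl⟩ := hX x
        exact R.mul_mem (R.zpow_mem h i) (hMR hm)
      rw [this, Subgroup.index_top] at hidx
      omega
    refine ⟨t, htR, two t a (t ^ 2) (hMR haM) (sq t) ?_ ⟨1, R.one_mem, by group⟩ fun x hx => ?_⟩
    · obtain ⟨i, hi⟩ := hM _ (hMn.conj_mem a haM t)
      rcases Int.even_or_odd' i with ⟨j, rfl | rfl⟩
      · refine ⟨a ^ j * (t⁻¹ * a ^ j * t)⁻¹, R.mul_mem (R.zpow_mem (hMR haM) j) (R.inv_mem ?_), ?_⟩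
        · have := hRn.conj_mem _ (R.zpow_mem (hMR haM) j) t⁻¹
          rwa [inv_inv] at this
        · have h1 : a = (t⁻¹ * a ^ j * t) ^ 2 := by
            rw [show (t⁻¹ * a ^ j * t) ^ 2 = t⁻¹ * a ^ (2 * j) * t by rw [pow_two]; group, ← hi]
            group
          have hcm : Commute (a ^ j) (t⁻¹ * a ^ j * t)⁻¹ :=
            (hab _ (R.zpow_mem (hMR haM) j) _ (by
              refine R.inv_mem ?_
              have := hRn.conj_mem _ (R.zpow_mem (hMR haM) j) t⁻¹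
              rwa [inv_inv] at this))
          rw [hcm.mul_pow, inv_pow, ← h1, hi, ← zpow_natCast, ← zpow_mul, mul_comm j]
          group
      · exact ⟨a ^ j, R.zpow_mem (hMR haM) j, by rw [hi, ← zpow_natCast, ← zpow_mul]; group⟩
    · obtain ⟨i, m, hm, rfl⟩ := hX x
      obtain ⟨l, rfl⟩ := hM m hm
      obtain ⟨j, rfl⟩ := par t htR i ((R.mul_mem_cancel_right (R.zpow_mem (hMR haM) l)).mp hx)
      refine ⟨l, j, ?_⟩
      rw [show t ^ (2 * j) = (t ^ 2) ^ j by rw [zpow_mul, zpow_ofNat]]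
      exact hab _ (R.zpow_mem (sq t) j) _ (R.zpow_mem (hMR haM) l)
  · have haR : a ∉ R := fun h => hMR fun y hy => by obtain ⟨i, rfl⟩ := hM y hy; exact R.zpow_mem h i
    obtain ⟨d, hdR, hdt⟩ : ∃ d ∈ R, t⁻¹ * d ∈ M := by
      by_cases h : t ∈ R
      · exact ⟨t, h, by simp⟩
      · exact ⟨t * a, (Subgroup.mul_mem_iff_of_index_two hidx).mpr (iff_of_false h haR), by simpa⟩
    have hgen : ∀ x ∈ R, ∃ i k : ℤ, x = (a ^ 2) ^ i * d ^ k := fun x hx => by
      obtain ⟨i, m, hm, rfl⟩ := hX x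
      have hq : (d ^ i)⁻¹ * (t ^ i * m) ∈ M := by
        refine QuotientGroup.eq.mp ?_
        have e : (QuotientGroup.mk' M d) = QuotientGroup.mk' M t := (QuotientGroup.eq.mpr hdt).symm
        change QuotientGroup.mk' M (d ^ i) = QuotientGroup.mk' M (t ^ i * m)
        rw [map_mul, map_zpow, map_zpow, e, show QuotientGroup.mk' M m = 1 from (QuotientGroup.eq_one_iff m).mpr hm,
          mul_one]
      obtain ⟨l, hl⟩ := hM _ hq
      obtain ⟨j, rfl⟩ := par a haR l (hl ▸ R.mul_mem (R.inv_mem (R.zpow_mem hdR i)) hx)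
      refine ⟨j, i, ?_⟩
      have e : (a ^ 2) ^ j = a ^ (2 * j) := by rw [zpow_mul, zpow_ofNat]
      rw [hab _ (R.zpow_mem (sq a) j) _ (R.zpow_mem hdR i), e, ← hl, mul_inv_cancel_left]
    have hcM : d⁻¹ * (a * d * a⁻¹) ∈ M := by
      have h1 := hMn.conj_mem a haM d⁻¹
      rw [inv_inv] at h1
      have := M.mul_mem h1 (M.inv_mem haM)
      convert this using 1
      group
    have hcR : d⁻¹ * (a * d * a⁻¹) ∈ R := R.mul_mem (R.inv_mem hdR) (hRn.conj_mem d hdR a)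
    obtain ⟨l, hl⟩ := hM _ hcM
    obtain ⟨j, rfl⟩ := par a haR l (hl ▸ hcR)
    refine ⟨a, haR, two a (a ^ 2) d (sq a) hdR ⟨1, R.one_mem, by group⟩ ?_ hgen⟩
    rcases Int.even_or_odd' j with ⟨r, rfl | rfl⟩
    · refine ⟨(a ^ 2) ^ r, R.zpow_mem (sq a) r, ?_⟩
      rw [show ((a ^ 2) ^ r) ^ 2 = a ^ (2 * (2 * r)) by
        rw [← zpow_natCast a 2, ← zpow_mul, ← zpow_natCast, ← zpow_mul]; congr 1; push_cast; ring, ← hl]
      group
    -- an odd exponent would make `R` too small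
    exfalso
    have h1 : d⁻¹ * a * d = a ^ (2 * (2 * r + 1)) * a := by rw [← hl]; group
    have h2 : (d⁻¹ * a * d) ^ 2 = a ^ 2 := by
      rw [show (d⁻¹ * a * d) ^ 2 = d⁻¹ * (a ^ 2 * d) by rw [pow_two, pow_two]; group, hab _ (sq a) d hdR, inv_mul_cancel_left]
    rw [h1, ((Commute.refl a).zpow_left _).mul_pow] at h2
    have h3 : ((a ^ 2) ^ (2 : ℕ)) ^ (2 * r + 1) = 1 := by
      have h4 := mul_eq_right.mp h2
      rw [← zpow_natCast, ← zpow_mul] at h4
      rw [← zpow_natCast a 2, ← zpow_natCast, ← zpow_mul, ← zpow_mul, ← h4]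
      congr 1
      push_cast
      ring
    have h5 : (a ^ 2) ^ 2 = 1 := by
      have hcop : Int.gcd (2 * r + 1) ((2 ^ n : ℕ) : ℤ) = 1 := by
        refine Int.isCoprime_iff_gcd_eq_one.mp ?_
        rw [Nat.cast_pow]
        exact IsCoprime.pow_right ⟨1, -r, by push_cast; ring⟩
      have h6 : ((a ^ 2) ^ (2 : ℕ)) ^ ((2 ^ n : ℕ) : ℤ) = 1 := by
        rw [zpow_natCast]; exact hexp _ (R.pow_mem (sq a) 2)
      have h7 := Int.gcd_eq_gcd_ab (2 * r + 1) ((2 ^ n : ℕ) : ℤ)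
      rw [hcop] at h7
      calc (a ^ 2) ^ 2 = ((a ^ 2) ^ 2) ^ ((1 : ℕ) : ℤ) := by simp
        _ = 1 := by rw [h7, zpow_add, zpow_mul, zpow_mul, h3, h6, one_zpow, one_zpow, one_mul]
    let f : Fin 2 × Fin (2 ^ n) → ↥R := fun p =>
      ⟨(a ^ 2) ^ (p.1 : ℕ) * d ^ (p.2 : ℕ), R.mul_mem (R.pow_mem (sq a) _) (R.pow_mem hdR _)⟩
    have hf : Function.Surjective f := by
      rintro ⟨x, hx⟩
      obtain ⟨i, k, rfl⟩ := hgen x hx
      have red : ∀ (u : X) (N : ℕ), 0 < N → u ^ N = 1 → ∀ i : ℤ, ∃ p : Fin N, u ^ (p : ℕ) = u ^ i := by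
        intro u N hN hu i
        refine ⟨⟨(i % (N : ℤ)).toNat, by
          have := Int.emod_lt_of_pos i (show (0 : ℤ) < N by exact_mod_cast hN); omega⟩, ?_⟩
        rw [← zpow_natCast, Int.toNat_of_nonneg (Int.emod_nonneg _ (by exact_mod_cast hN.ne'))]
        conv_rhs => rw [← Int.mul_ediv_add_emod i N, zpow_add, zpow_mul, zpow_natCast, hu, one_zpow, one_mul]
      obtain ⟨p, hp⟩ := red (a ^ 2) 2 (by norm_num) h5 i
      obtain ⟨q, hq⟩ := red d (2 ^ n) (Nat.two_pow_pos n) (hexp d hdR) k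
      exact ⟨(p, q), Subtype.ext (by show _ * _ = _; rw [hp, hq])⟩
    have h8 := Nat.card_le_card_of_surjective f hf
    rw [hcard, Nat.card_prod, Nat.card_fin, Nat.card_fin] at h8
    have h9 := Nat.le_of_mul_le_mul_right h8 (Nat.two_pow_pos n)
    have : 2 ^ 2 ≤ 2 ^ n := Nat.pow_le_pow_right (by norm_num) hn
    omega

variable (X) in
/-- The subgroup generated by squares. -/
def sqs : Subgroup X := Subgroup.closure {v | ∃ w : X, w ^ 2 = v}

theorem sqs_map (β : MulAut X) {v : X} (hv : v ∈ sqs X) : β v ∈ sqs X := by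
  induction hv using Subgroup.closure_induction with
  | mem y hy => obtain ⟨w, rfl⟩ := hy; exact Subgroup.subset_closure ⟨β w, (map_pow β w 2).symm⟩
  | one => rw [map_one]; exact one_mem _
  | mul a b _ _ ha hb => rw [map_mul]; exact mul_mem ha hb
  | inv a _ ha => rw [map_inv]; exact inv_mem ha

variable (X) in
/-- The automorphisms trivial modulo squares. -/
def sqStab : Subgroup (MulAut X) where
  carrier := {β | ∀ x : X, x⁻¹ * β x ∈ sqs X}
  one_mem' x := by simp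
  mul_mem' {a b} ha hb x := by
    have : x⁻¹ * (a * b) x = x⁻¹ * b x * ((b x)⁻¹ * a (b x)) := by rw [MulAut.mul_apply]; group
    rw [this]; exact mul_mem (hb x) (ha _)
  inv_mem' {a} ha x := by
    have h := inv_mem (ha (a⁻¹ x))
    rwa [MulAut.apply_inv_self, mul_inv_rev, inv_inv] at h

instance : (sqStab X).Normal := ⟨fun b hb c x => by
  have h := sqs_map c (hb (c⁻¹ x))
  rw [map_mul, map_inv, MulAut.apply_inv_self] at h
  exact h⟩

theorem sqStab_isPGroup [Finite X] (hX : IsPGroup 2 X) (hab : ∀ a b : X, a * b = b * a) :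
    IsPGroup 2 ↥(sqStab X) := by
  have hsq : ∀ v ∈ sqs X, ∃ w, w ^ 2 = v := by
    intro v hv
    induction hv using Subgroup.closure_induction with
    | mem y hy => exact hy
    | one => exact ⟨1, one_pow 2⟩
    | mul a b _ _ ha hb =>
      obtain ⟨x, rfl⟩ := ha
      obtain ⟨y, rfl⟩ := hb
      exact ⟨x * y, (show Commute x y from hab x y).mul_pow 2⟩
    | inv a _ ha => obtain ⟨x, rfl⟩ := ha; exact ⟨x⁻¹, inv_pow x 2⟩
  haveI : Fact (Nat.Prime 2) := ⟨Nat.prime_two⟩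
  obtain ⟨m, hm⟩ := IsPGroup.iff_card.mp hX
  rintro ⟨a, ha⟩
  have key : ∀ (k : ℕ) (x : X), ∃ y, (a ^ 2 ^ k) x = x * y ^ 2 ^ (k + 1) := by
    intro k
    induction k with
    | zero =>
      intro x
      obtain ⟨w, hw⟩ := hsq _ (ha x)
      exact ⟨w, by rw [pow_zero, pow_one, zero_add, pow_one, hw, mul_inv_cancel_left]⟩
    | succ k ih =>
      intro x
      obtain ⟨y, hy⟩ := ih x
      obtain ⟨z, hz⟩ := ih y
      refine ⟨y * z ^ 2 ^ k, ?_⟩
      rw [pow_succ 2 k, pow_mul, pow_two, MulAut.mul_apply, hy, map_mul, map_pow, hy, hz, mul_assoc,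
        (show Commute y (z ^ 2 ^ (k + 1)) from hab _ _).mul_pow, ← mul_assoc, ← mul_assoc, mul_assoc x,
        ← pow_add, ← two_mul, ← pow_succ', (show Commute y (z ^ 2 ^ k) from hab _ _).mul_pow, ← pow_mul, ← pow_mul,
        ← pow_add, ← pow_add, mul_assoc, show k + 1 + (k + 1) = k + (k + 1 + 1) by omega]
  refine ⟨m, Subtype.ext (MulEquiv.ext fun x => ?_)⟩
  obtain ⟨y, hy⟩ := key m x
  show (a ^ 2 ^ m) x = x
  rw [hy, pow_succ, pow_mul, ← hm, pow_card_eq_one', one_pow, mul_one]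

end Groups

open Cfsg Cfsg.FusionSystem CfsgLib.Fusion

variable {Ω : Type u} [Group Ω] {S : Subgroup Ω} [Finite ↥S] {F : FusionSystem S}

/-- A metacyclic strongly closed subgroup outside the maximal class list is normal. -/
theorem normal_of_metacyclic (hS : IsPGroup 2 ↥S) (hF : F.IsSaturated 2) {P : Subgroup Ω} (hP : F.StronglyClosed P)
    (hm : Cfsg.IsMetacyclic ↥P) (hd : ¬ ∃ m : ℕ, Nonempty (↥P ≃* DihedralGroup m))
    (hq : ¬ ∃ m : ℕ, Nonempty (↥P ≃* QuaternionGroup m)) (hsd : ¬ Cfsg.IsQuasiDihedral ↥P) : F.IsNormal P := by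
  haveI : Fact (Nat.Prime 2) := ⟨Nat.prime_two⟩
  refine isNormal_of_le_radical 2 hS hF hP fun R hRn hc hr => ?_
  by_contra hPR
  have hPS : P ≤ S := hP.1
  have hRS : R ≤ S := hc.1
  haveI := finite_of_le hPS
  haveI := finite_of_le hRS
  haveI := finite_aut_of_le hRS
  have hPn : S ≤ Subgroup.normalizer (P : Set Ω) := StronglyClosed.normal hP
  set T := R ⊓ P with hTdef
  have hTR : T ≤ R := inf_le_left
  have hTP : T ≤ P := inf_le_right
  haveI := finite_of_le (hTR.trans hRS)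
  haveI := finite_aut_of_le (hTR.trans hRS)
  have hA : ∀ a ∈ F.autGroup R, ∀ x : ↥T, ((a (Subgroup.inclusion hTR x) : ↥R) : Ω) ∈ T := fun a ha x =>
    ⟨(a _).2, hP.2 T hTP _ (restrict_mem ((autGroup_carrier F hRS _).mp ha) hTR) x⟩
  set A := F.autGroup R with hAdef
  let ρ : ↥A →* MulAut ↥T := resHom hTR A hA
  let cg : ∀ g : Ω, g ∈ P → g ∈ Subgroup.normalizer (R : Set Ω) → ↥A := fun g hgP hgN =>
    ⟨R.normalizerMonoidHom ⟨g, hgN⟩,
      autInducedBy_le_autGroup F hRS ((mem_autInducedBy _).mpr ⟨g, hPS hgP, fun _ => rfl⟩)⟩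
  have hcg : ∀ g hgP hgN (x : ↥T), ((ρ (cg g hgP hgN) x : ↥T) : Ω) = g * x * g⁻¹ := fun g hgP hgN x => rfl
  -- elements of `P` acting on `T` inside a suitable `2`-group lie in `R`
  have key : ∀ (B : Subgroup (MulAut ↥T)), (B.comap ρ).Normal → IsPGroup 2 ↥B →
      ∀ g (hgP : g ∈ P) (hgN : g ∈ Subgroup.normalizer (R : Set Ω)), ρ (cg g hgP hgN) ∈ B → g ∈ R := by
    intro B hBn hB g hgP hgN hgB
    let M : Subgroup ↥A :=
      { carrier := {a | ∀ x : ↥R, ((x⁻¹ * (a : MulAut ↥R) x : ↥R) : Ω) ∈ P}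
        one_mem' := fun x => by simp
        mul_mem' := fun {a b} ha hb x => by
          have e : x⁻¹ * ((a * b : ↥A) : MulAut ↥R) x = x⁻¹ * (b : MulAut ↥R) x *
              (((b : MulAut ↥R) x)⁻¹ * (a : MulAut ↥R) ((b : MulAut ↥R) x)) := by
            show x⁻¹ * (a : MulAut ↥R) ((b : MulAut ↥R) x) = _
            group
          rw [e, Subgroup.coe_mul]
          exact mul_mem (hb x) (ha _)
        inv_mem' := fun {a} ha x => by
          have h := P.inv_mem (ha ((a : MulAut ↥R)⁻¹ x))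
          rw [← Subgroup.coe_inv, MulAut.apply_inv_self, mul_inv_rev, inv_inv] at h
          exact h }
    haveI hMn : M.Normal := ⟨fun b hb c x => by
      have h1 := hb ((c : MulAut ↥R)⁻¹ x)
      set w := ((c : MulAut ↥R)⁻¹ x)⁻¹ * (b : MulAut ↥R) ((c : MulAut ↥R)⁻¹ x) with hw
      have h2 := (hA c c.2 ⟨w, w.2, h1⟩).2
      have e : x⁻¹ * ((c * b * c⁻¹ : ↥A) : MulAut ↥R) x = (c : MulAut ↥R) w := by
        rw [hw, map_mul, map_inv, MulAut.apply_inv_self]; rfl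
      rw [e]
      exact h2⟩
    haveI := hBn
    have hp : IsPGroup 2 ↥(M ⊓ B.comap ρ) := by
      rintro ⟨a, haM, haB⟩
      obtain ⟨k, hk⟩ := hB ⟨ρ a, haB⟩
      obtain ⟨m, hmc⟩ := IsPGroup.iff_card.mp (hS.to_le hRS)
      refine ⟨k + m, Subtype.ext (Subtype.ext (MulEquiv.ext fun x => ?_))⟩
      show ((a : MulAut ↥R) ^ 2 ^ (k + m)) x = x
      rw [pow_add, pow_mul]
      have hbfix : ∀ y : ↥R, (y : Ω) ∈ P → ((a : MulAut ↥R) ^ 2 ^ k) y = y := fun y hy => by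
        have h1 : ρ (a ^ 2 ^ k) = 1 := by rw [map_pow]; exact congrArg Subtype.val hk
        have h2 : ((ρ (a ^ 2 ^ k) (⟨y, y.2, hy⟩ : ↥T) : ↥T) : Ω) = y := by rw [h1]; rfl
        exact Subtype.ext h2
      rw [iter_fix _ (d := x⁻¹ * ((a : MulAut ↥R) ^ 2 ^ k) x) (mul_inv_cancel_left _ _).symm
        (hbfix _ ((M.pow_mem haM (2 ^ k)) x)), ← hmc, pow_card_eq_one', mul_one]
    haveI := hp
    have hmem : cg g hgP hgN ∈ M ⊓ B.comap ρ := by
      refine ⟨fun x => ?_, hgB⟩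
      show (x : Ω)⁻¹ * (g * x * g⁻¹) ∈ P
      have h1 := (Subgroup.mem_normalizer_iff''.mp (hPn (hRS x.2)) g).mp hgP
      rw [show (x : Ω)⁻¹ * (g * x * g⁻¹) = (x : Ω)⁻¹ * g * x * g⁻¹ by group]
      exact P.mul_mem h1 (P.inv_mem hgP)
    refine AbelianIndexP.mem_of_inn hc ⟨hPS hgP, hgN⟩ ?_
    rw [← hr.2]
    exact ⟨cg g hgP hgN, CfsgLib.Core.le_pCore inferInstance hp hmem, rfl⟩
  have grow : ∀ K : Subgroup Ω, K ≤ P → R ≤ Subgroup.normalizer (K : Set Ω) →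
      (∀ g ∈ K, g ∈ Subgroup.normalizer (R : Set Ω) → g ∈ R) → K ≤ R := by
    intro K hKP hRK hK
    by_contra hne
    have hlt : R < R ⊔ K := lt_of_le_of_ne le_sup_left fun h => hne (h.symm ▸ le_sup_right)
    have hle : R ⊔ K ≤ S := sup_le hRS (hKP.trans hPS)
    haveI : Finite ↥(R ⊔ K) := finite_of_le hle
    have hN := lt_normalizerIn (S := R ⊔ K) (p := 2) (hS.to_le hle) hlt
    obtain ⟨g, hgN, hgR⟩ := SetLike.exists_of_lt hN
    have hg' : g ∈ R ⊔ K := hgN.1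
    rw [← SetLike.mem_coe, Subgroup.coe_mul_of_left_le_normalizer_right R K hRK] at hg'
    obtain ⟨x, hx, r, hrK, rfl⟩ := hg'
    have hrN : r ∈ Subgroup.normalizer (R : Set Ω) := by
      have := mul_mem (inv_mem (Subgroup.le_normalizer hx : x ∈ Subgroup.normalizer (R : Set Ω))) hgN.2
      simpa using this
    exact hgR (mul_mem hx (hK r hrK hrN))
  -- the action on `T` is not a `2`-group
  have hnp : ¬ IsPGroup 2 ↥ρ.range := fun h => hPR (grow P le_rfl (hRS.trans hPn) fun g hgP hgN =>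
    key ρ.range ⟨fun a _ b => ⟨_, rfl⟩⟩ h g hgP hgN ⟨_, rfl⟩)
  obtain ⟨⟨α, hαr⟩, hαo, hα1⟩ := exists_odd hnp
  rw [Subgroup.orderOf_mk] at hαo
  have hα1' : α ≠ 1 := fun h => hα1 (Subtype.ext h)
  obtain ⟨l, hl⟩ := IsPGroup.iff_card.mp (hS.to_le (hTR.trans hRS))
  -- the centralizer of `T` in `P` lies in `T`
  set C := P ⊓ Subgroup.centralizer (T : Set Ω) with hCdef
  haveI : Finite ↥C := finite_of_le (inf_le_left.trans hPS : C ≤ S)
  have hCT : C ≤ T := by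
    refine le_inf (grow C inf_le_left (fun r hr' => ?_) fun g hg hgN => ?_) inf_le_left
    · refine Subgroup.mem_normalizer_fintype fun y hy => ?_
      refine ⟨(Subgroup.mem_normalizer_iff.mp (hPn (hRS hr')) y).mp hy.1, Subgroup.mem_centralizer_iff.mpr fun z hz => ?_⟩
      have hz' : r⁻¹ * z * r ∈ T := by
        refine ⟨R.mul_mem (R.mul_mem (R.inv_mem hr') hz.1) hr', ?_⟩
        exact (Subgroup.mem_normalizer_iff''.mp (hPn (hRS hr')) z).mp hz.2
      have h1 := Subgroup.mem_centralizer_iff.mp hy.2 _ hz'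
      calc z * (r * y * r⁻¹) = r * ((r⁻¹ * z * r) * y) * r⁻¹ := by group
        _ = r * (y * (r⁻¹ * z * r)) * r⁻¹ := by rw [h1]
        _ = r * y * r⁻¹ * z := by group
    · refine key ⊥ ((MonoidHom.comap_bot ρ).symm ▸ inferInstance) IsPGroup.of_bot g hg.1 hgN ?_
      refine Subgroup.mem_bot.mpr (MulEquiv.ext fun x => Subtype.ext ?_)
      rw [hcg g hg.1 hgN, ← Subgroup.mem_centralizer_iff.mp hg.2 x x.2, mul_inv_cancel_right]
      rfl
  have hC' : Subgroup.centralizer (T.subgroupOf P : Set ↥P) ≤ T.subgroupOf P := fun y hy => hCT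
    ⟨y.2, Subgroup.mem_centralizer_iff.mpr fun z hz =>
      congrArg Subtype.val (Subgroup.mem_centralizer_iff.mp hy (⟨z, hTP hz⟩ : ↥P) hz)⟩
  have heq := Subgroup.subgroupOfEquivOfLe hTP
  have small : ¬ (Nonempty (↥T ≃* QuaternionGroup 2) ∨
      Nonempty (↥T ≃* Multiplicative (ZMod (2 ^ 1)) × Multiplicative (ZMod (2 ^ 1)))) := fun h => by
    rcases small_selfcentralizing (hS.to_le hPS) _ hC'
      (h.imp (fun ⟨q⟩ => ⟨heq.trans q⟩) fun ⟨q⟩ => ⟨heq.trans q⟩) with h' | h' | h'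
    exacts [hd h', hq h', hsd h']
  rcases TwoAut.main l ↥T hl (of_injective hm (Subgroup.inclusion hTP) (Subgroup.inclusion_injective hTP))
    α hαo hα1' with h | ⟨n, hn, ⟨e⟩⟩
  · exact small (Or.inl h)
  rcases (by omega : n = 1 ∨ 2 ≤ n) with rfl | hn2
  · exact small (Or.inr ⟨e⟩)
  obtain ⟨g₀, hg₀P, hg₀N, hg₀R⟩ : ∃ g ∈ P, g ∈ Subgroup.normalizer (R : Set Ω) ∧ g ∉ R := by
    by_contra hno
    push Not at hno
    exact hPR (grow P le_rfl (hRS.trans hPn) hno)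
  obtain ⟨g, hgP, hgN, hgR, hg2⟩ : ∃ g ∈ P, g ∈ Subgroup.normalizer (R : Set Ω) ∧ g ∉ R ∧ g ^ 2 ∈ R := by
    obtain ⟨k, hk⟩ := hS ⟨g₀, hPS hg₀P⟩
    have hk' : g₀ ^ 2 ^ k ∈ R := by
      rw [show g₀ ^ 2 ^ k = 1 from congrArg Subtype.val hk]; exact R.one_mem
    clear hk
    induction k with
    | zero => exact absurd (by simpa using hk') hg₀R
    | succ k ih =>
      by_cases h : g₀ ^ 2 ^ k ∈ R
      · exact ih h
      · exact ⟨_, P.pow_mem hg₀P _, pow_mem hg₀N _, h, by rw [← pow_mul, ← pow_succ]; exact hk'⟩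
  have hgT : g ∈ Subgroup.normalizer (T : Set Ω) := Subgroup.mem_normalizer_fintype fun y hy =>
    ⟨(Subgroup.mem_normalizer_iff.mp hgN y).mp hy.1, P.mul_mem (P.mul_mem hgP hy.2) (P.inv_mem hgP)⟩
  set K := T ⊔ Subgroup.zpowers g with hKdef
  have hKP : K ≤ P := sup_le hTP (Subgroup.zpowers_le.mpr hgP)
  have hKN : K ≤ Subgroup.normalizer (R : Set Ω) :=
    sup_le (hTR.trans Subgroup.le_normalizer) (Subgroup.zpowers_le.mpr hgN)
  haveI := finite_of_le (hKP.trans hPS)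
  have hg2T : g ^ 2 ∈ T := ⟨hg2, P.pow_mem hgP 2⟩
  have hidx : (T.subgroupOf K).index = 2 := by
    rw [Subgroup.index_eq_two_iff]
    refine ⟨⟨g, Subgroup.mem_sup_right (Subgroup.mem_zpowers g)⟩, fun b => ?_⟩
    show Xor ((b : Ω) * g ∈ T) ((b : Ω) ∈ T)
    by_cases hb : (b : Ω) ∈ T
    · exact Or.inr ⟨hb, fun h => hgR ((T.mul_mem_cancel_left hb).mp h).1⟩
    refine Or.inl ⟨?_, hb⟩
    have hb' : (b : Ω) ∈ T ⊔ Subgroup.zpowers g := b.2
    rw [← SetLike.mem_coe, Subgroup.coe_mul_of_right_le_normalizer_left T (Subgroup.zpowers g)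
      (Subgroup.zpowers_le.mpr hgT)] at hb'
    obtain ⟨r, hr', _, ⟨i, rfl⟩, hbe⟩ := hb'
    change r * g ^ i = (b : Ω) at hbe
    rw [← hbe] at hb ⊢
    rw [mul_assoc, ← zpow_add_one]
    refine T.mul_mem hr' ?_
    rcases Int.even_or_odd' i with ⟨j, rfl | rfl⟩
    · refine absurd (T.mul_mem hr' ?_) hb
      rw [zpow_mul, zpow_ofNat]; exact T.zpow_mem hg2T j
    · rw [show 2 * j + 1 + 1 = 2 * (j + 1) by ring, zpow_mul, zpow_ofNat]; exact T.zpow_mem hg2T _
  have hTK : T ≤ K := le_sup_left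
  have heK := Subgroup.subgroupOfEquivOfLe hTK
  have hTab : ∀ x y : ↥T, x * y = y * x := fun x y => e.injective (by rw [map_mul, map_mul, mul_comm])
  haveI : NeZero (2 ^ n) := ⟨pow_ne_zero _ (by norm_num)⟩
  obtain ⟨t, htT, ht⟩ := exists_trivial_mod_sq (of_injective hm (Subgroup.inclusion hKP) (Subgroup.inclusion_injective hKP))
    (T.subgroupOf K) hidx (fun a ha b hb => Subtype.ext (show (a : Ω) * b = b * a from congrArg Subtype.val (hTab ⟨a, ha⟩ ⟨b, hb⟩))) hn2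
    (fun a ha => Subtype.ext (show (a : Ω) ^ 2 ^ n = 1 from congrArg Subtype.val
      (e.injective (by
        rw [map_pow, map_one]
        refine Prod.ext ?_ ?_ <;> exact Multiplicative.toAdd.injective (by simp)) : (⟨a, ha⟩ : ↥T) ^ 2 ^ n = 1)))
    (by rw [Nat.card_congr (heK.trans e).toEquiv, Nat.card_prod, Nat.card_congr Multiplicative.toAdd, Nat.card_zmod])
  refine htT ⟨?_, hKP t.2⟩
  refine key (sqStab ↥T) inferInstance (sqStab_isPGroup (hS.to_le (hTR.trans hRS)) hTab) t (hKP t.2) (hKN t.2)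
    fun x => ?_
  obtain ⟨y, hy, hty⟩ := ht ⟨x, hTK x.2⟩ x.2
  refine Subgroup.subset_closure ⟨⟨y, hy⟩, Subtype.ext ?_⟩
  show (y : Ω) ^ 2 = (x : Ω)⁻¹ * ((t : Ω) * x * (t : Ω)⁻¹)
  rw [show (t : Ω) * x * (t : Ω)⁻¹ = (x : Ω) * (y : Ω) ^ 2 from congrArg Subtype.val hty, inv_mul_cancel_left]

/-- With `S` normal and a `2`-group of automorphisms only the inner system remains. -/
theorem inner_of_metacyclic (hS : IsPGroup 2 ↥S) (hF : F.IsSaturated 2) (hm : Cfsg.IsMetacyclic ↥S)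
    (hh : ¬ ∃ n : ℕ, Nonempty (↥S ≃* Multiplicative (ZMod (2 ^ n)) × Multiplicative (ZMod (2 ^ n))))
    (hd : ¬ ∃ m : ℕ, Nonempty (↥S ≃* DihedralGroup m))
    (hq : ¬ ∃ m : ℕ, Nonempty (↥S ≃* QuaternionGroup m)) (hsd : ¬ Cfsg.IsQuasiDihedral ↥S) :
    ∀ P : Subgroup Ω, F.Hom P = (innerFusionSystem S).Hom P := by
  haveI : Fact (Nat.Prime 2) := ⟨Nat.prime_two⟩
  haveI := finite_aut_of_le (S := S) (le_refl S)
  have hN := normal_of_metacyclic hS hF ⟨le_rfl, fun _ _ _ hφ x => apply_mem_S hφ x⟩ hm hd hq hsd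
  have hA : IsPGroup 2 (MulAut ↥S) := by
    by_contra hA
    obtain ⟨α, hαo, hα1⟩ := exists_odd hA
    obtain ⟨l, hl⟩ := IsPGroup.iff_card.mp hS
    rcases TwoAut.main l ↥S hl hm α hαo hα1 with h | ⟨n, -, h⟩
    exacts [hq ⟨2, h⟩, hh ⟨n, h⟩]
  intro P
  refine Set.Subset.antisymm (le_inner_of_radical hS hF (fun R hR hc hr => ?_) P) ?_
  · obtain rfl : R = S := le_antisymm hc.1 (normal_le_radical 2 hS hN hc hr)
    exact hA.to_subgroup _
  · rintro φ ⟨hP, g, hg, hge⟩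
    exact conj_mem_of_eq F hP hg hge

end CfsgLib.Metacyclic.TwoFusion
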